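import Cfsg.Agent.Lib.Recog.PguThree.Defs
import Cfsg.Agent.Lib.Lie.SU3PresFrame
import Cfsg.Agent.Lib.Classical.UnitDiagonalOut
import Cfsg.Agent.Lib.Classical.UnitSemilinear
import Cfsg.Agent.Lib.Classical.UnitMultThreeGen

/-!
The centraliser of an involution of `PGU₃(q)`, `q` even, is the stabiliser of an isotropic vector.
-/

set_option autoImplicit false
set_option linter.unusedSectionVars false
set_option linter.style.haveILetI false

namespace Cfsg.Agent.Recog.PguThree

open Matrix Cfsg Cfsg.Agent.Classical Cfsg.Agent.Classical.PSUAut Cfsg.Agent.Lie.SUGen Cfsg.Agent.Lie.SU3Pres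
open Cfsg.Agent.UnitDiagonalOut (guVal guDiag normOne natCard_normOne scalar_of_commute_su guVal_guDiag
  scalar_mem_center)

variable {F : Type*} [Field F] [Fintype F] [CharP F 2] {q : ℕ} (hF : Fintype.card F = q ^ 2)

local notation "cj" => qFrob hF
local notation "V" => (Fin 3 → F)
local notation "h" => hermForm 3 F q
local notation "GU3" => GU 3 F q

/-- The stabiliser of a vector. -/
def vStab (e : V) : Subgroup GU3 where
  carrier := {g | guVal g *ᵥ e = e}
  one_mem' := Matrix.one_mulVec e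
  mul_mem' {a b} ha hb := by
    show (guVal a * guVal b) *ᵥ e = e
    rw [← Matrix.mulVec_mulVec, show guVal b *ᵥ e = e from hb]; exact ha
  inv_mem' {a} ha := by
    have h1 := congrArg ((guVal a⁻¹) *ᵥ ·) (show guVal a *ᵥ e = e from ha)
    simp only [Matrix.mulVec_mulVec] at h1
    rw [show guVal a⁻¹ * guVal a = guVal (a⁻¹ * a) from rfl, inv_mul_cancel,
      show guVal (1 : GU3) = 1 from rfl, Matrix.one_mulVec] at h1
    exact h1.symm

theorem gu_h (g : GU3) (u v : V) : h (guVal g *ᵥ u) (guVal g *ᵥ v) = h u v := g.2 u v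

theorem gu_mulVec_mul (a b : GU3) (v : V) : guVal (a * b) *ᵥ v = guVal a *ᵥ guVal b *ᵥ v :=
  (Matrix.mulVec_mulVec v _ _).symm

theorem gu_mulVec_co (g : GU3) (e n f : V) (x y z : F) : guVal g *ᵥ co e n f x y z =
    x • (guVal g *ᵥ e) + y • (guVal g *ᵥ n) + z • (guVal g *ᵥ f) := by
  simp only [co, Matrix.mulVec_add, Matrix.mulVec_smul]

variable {e n f : Fin 3 → F} (B : Frame3 q e n f)

include hF B in
theorem gu_ext_co {a b : GU3} (hab : ∀ x y z, guVal a *ᵥ co e n f x y z = guVal b *ᵥ co e n f x y z) : a = b :=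
  Subtype.ext (Units.ext (Matrix.ext_iff_mulVec.2 fun v => by
    obtain ⟨x, y, z, rfl⟩ := exists_co hF B v
    exact hab x y z))

include hF B in
/-- The coordinates of an element of the stabiliser. -/
theorem coords {g : GU3} (hg : g ∈ vStab e) : ∃ d r p : F, d * cj d = 1 ∧ OK hF r p ∧
    ∀ x y z, guVal g *ᵥ co e n f x y z = co e n f (x - cj r * d * y + p * z) (d * y + r * z) z := by
  obtain ⟨β, d, γ, hn⟩ := exists_co hF B (guVal g *ᵥ n)
  obtain ⟨p, r, s, hf⟩ := exists_co hF B (guVal g *ᵥ f)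
  have he : guVal g *ᵥ e = co e n f 1 0 0 := hg.trans co_e.symm
  have h1 := gu_h g e n
  have h2 := gu_h g e f
  have h3 := gu_h g n n
  have h4 := gu_h g n f
  have h5 := gu_h g f f
  rw [he, hn, B.h_co hF, B.en hF] at h1
  rw [he, hf, B.h_co hF, B.P.ef] at h2
  rw [hn, B.h_co hF, B.nn] at h3
  rw [hn, hf, B.h_co hF, B.nf] at h4
  rw [hf, B.h_co hF, B.P.ff] at h5
  simp only [one_mul, zero_mul, add_zero] at h1 h2
  have hs : s = 1 := by rw [← cj_cj hF s, h2, map_one]
  have hγ : γ = 0 := by rw [← cj_cj hF γ, h1, map_zero]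
  subst hs hγ
  simp only [map_one, map_zero, mul_one, one_mul, mul_zero, zero_mul, add_zero, zero_add] at h3 h4 h5
  have hβ : β = -(cj r * d) := by linear_combination h4
  refine ⟨d, r, p, h3, ?_, fun x y z => ?_⟩
  · unfold OK; linear_combination h5
  · rw [gu_mulVec_co, he, hn, hf, smul_co, smul_co, smul_co, co_add, co_add, hβ]
    congr 1 <;> ring

/-- The element multiplying `n` by `d` and fixing its orthogonal space. -/
def reflMat (q : ℕ) (n : V) (d : F) : Matrix (Fin 3) (Fin 3) F := 1 + (d - 1) • vecMulVec n (fun i => n i ^ q)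

theorem reflMat_mulVec (d : F) (x : V) : reflMat q n d *ᵥ x = x + ((d - 1) * h x n) • n := by
  have hd : (fun i => n i ^ q) ⬝ᵥ x = h x n := by simp [hermForm, dotProduct, mul_comm]
  funext i
  simp [reflMat, Matrix.add_mulVec, Matrix.smul_mulVec, Matrix.vecMulVec_mulVec, hd]
  ring

include hF B in
theorem reflMat_co (d x y z : F) : reflMat q n d *ᵥ co e n f x y z = co e n f x (d * y) z := by
  have h0 : h (co e n f x y z) n = y := by
    conv_lhs => arg 5; rw [← co_n (e := e) (f := f) (n := n)]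
    rw [B.h_co hF]; simp
  rw [reflMat_mulVec, h0]
  simp only [co]; module

include hF B in
theorem reflMat_mul (d d' : F) : reflMat q n d * reflMat q n d' = reflMat q n (d * d') := by
  refine Matrix.ext_iff_mulVec.2 fun v => ?_
  obtain ⟨x, y, z, rfl⟩ := exists_co hF B v
  rw [← Matrix.mulVec_mulVec, reflMat_co hF B, reflMat_co hF B, reflMat_co hF B, mul_assoc]

include hF B in
theorem exists_refl {d : F} (hd : d * cj d = 1) :
    ∃ g : GU3, ∀ x y z, guVal g *ᵥ co e n f x y z = co e n f x (d * y) z := by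
  have h1 : reflMat q n (1 : F) = 1 := by simp [reflMat]
  refine ⟨⟨⟨reflMat q n d, reflMat q n (cj d), by rw [reflMat_mul hF B, hd, h1],
    by rw [reflMat_mul hF B, mul_comm, hd, h1]⟩, fun u v => ?_⟩, fun x y z => reflMat_co hF B d x y z⟩
  obtain ⟨x, y, z, rfl⟩ := exists_co hF B u
  obtain ⟨x', y', z', rfl⟩ := exists_co hF B v
  show h (reflMat q n d *ᵥ _) (reflMat q n d *ᵥ _) = _
  rw [reflMat_co hF B, reflMat_co hF B, B.h_co hF, B.h_co hF, map_mul]
  linear_combination (y * cj y') * hd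

include hF B in
theorem exists_elem {d r p : F} (hd : d * cj d = 1) (hrp : OK hF r p) : ∃ g : GU3, g ∈ vStab e ∧
    ∀ x y z, guVal g *ᵥ co e n f x y z = co e n f (x - cj r * d * y + p * z) (d * y + r * z) z := by
  obtain ⟨D, hD⟩ := exists_refl hF B hd
  have key : ∀ x y z, guVal (suToGU (Um hF B r p) * D) *ᵥ co e n f x y z =
      co e n f (x - cj r * d * y + p * z) (d * y + r * z) z := fun x y z => by
    rw [gu_mulVec_mul, hD, show guVal (suToGU (Um hF B r p)) = suVal (Um hF B r p) from rfl, U_act hF B hrp,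
      mul_assoc]
  refine ⟨_, ?_, key⟩
  show guVal _ *ᵥ e = e
  have k1 := key 1 0 0
  simp only [mul_zero, add_zero, sub_zero, co_e] at k1
  exact k1

include hF in
theorem natCard_fixed : Nat.card {x : F // cj x = x} = q := by
  classical
  let T : F →+ F := (AddMonoidHom.id F) + (qFrob hF).toAddMonoidHom
  have hk : ∀ x, x ∈ T.ker ↔ cj x = x := fun x => by
    rw [AddMonoidHom.mem_ker, show T x = x + cj x from rfl, CharTwo.add_eq_zero]
    exact eq_comm
  have hr : ∀ x, x ∈ T.range ↔ cj x = x := fun x => by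
    constructor
    · rintro ⟨c, rfl⟩
      show cj (c + cj c) = c + cj c
      rw [map_add, cj_cj, add_comm]
    · intro hx
      exact PSUAut.exists_trace_eq hF hx
  have e1 : Nat.card T.ker = Nat.card {x : F // cj x = x} := Nat.card_congr (Equiv.subtypeEquivRight hk)
  have e2 : Nat.card T.range = Nat.card {x : F // cj x = x} := Nat.card_congr (Equiv.subtypeEquivRight hr)
  have e3 := AddSubgroup.card_eq_card_quotient_mul_card_addSubgroup T.ker
  rw [Nat.card_congr (QuotientAddGroup.quotientKerEquivRange T).toEquiv, e1, e2, Nat.card_eq_fintype_card,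
    hF] at e3
  nlinarith

include hF in
theorem natCard_ok : Nat.card {w : F × F // OK hF w.1 w.2} = q ^ 3 := by
  classical
  have hs : ∀ r : F, ∃ p, OK hF r p := fun r => by
    obtain ⟨p, hp⟩ := PSUAut.exists_trace_eq hF (a := r * cj r) (by rw [map_mul, cj_cj, mul_comm])
    exact ⟨p, by rw [OK, hp, CharTwo.add_self_eq_zero]⟩
  choose s hs using hs
  let E : F × {x : F // cj x = x} ≃ {w : F × F // OK hF w.1 w.2} :=
    { toFun := fun w => ⟨(w.1, s w.1 + w.2.1), by
        have h1 := hs w.1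
        unfold OK at h1 ⊢
        dsimp only
        rw [map_add, w.2.2]
        linear_combination h1 + CharTwo.add_self_eq_zero w.2.1⟩
      invFun := fun w => (w.1.1, ⟨w.1.2 - s w.1.1, by
        have h1 := hs w.1.1
        have h2 := w.2
        unfold OK at h1 h2
        rw [map_sub]
        linear_combination h2 - h1 - CharTwo.add_self_eq_zero (w.1.2 - s w.1.1)⟩)
      left_inv := fun w => by simp
      right_inv := fun w => Subtype.ext (by simp) }
  rw [← Nat.card_congr E, Nat.card_prod, natCard_fixed hF, Nat.card_eq_fintype_card, hF]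
  ring

include hF in
theorem center_iff {g : GU3} : g ∈ Subgroup.center GU3 ↔ ∃ c : F, guVal g = c • (1 : Matrix (Fin 3) (Fin 3) F) := by
  constructor
  · intro hg
    obtain ⟨c, hc⟩ := scalar_of_commute_su (M := guVal g) hF fun t =>
      congrArg guVal (Subgroup.mem_center_iff.1 hg (suToGU t))
    exact ⟨c, by rw [hc, Matrix.smul_one_eq_diagonal]; rfl⟩
  · rintro ⟨c, hc⟩
    refine Subgroup.mem_center_iff.2 fun k => Subtype.ext (Units.ext ?_)
    show guVal k * guVal g = guVal g * guVal k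
    rw [hc, Matrix.mul_smul, Matrix.smul_mul, Matrix.mul_one, Matrix.one_mul]

include hF in
theorem natCard_center : Nat.card (Subgroup.center GU3) = q + 1 := by
  rw [← natCard_normOne hF]
  refine (Nat.card_congr (Equiv.ofBijective
    (fun z : normOne F q => (⟨guDiag hF fun _ => z, scalar_mem_center hF z⟩ : Subgroup.center GU3))
    ⟨fun z z' e => ?_, fun g => ?_⟩)).symm
  · have h1 := congrArg (fun k : Subgroup.center GU3 => guVal k.1 0 0) e
    simp [guVal_guDiag] at h1
    exact Subtype.ext (Units.ext h1)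
  · obtain ⟨c, hc⟩ := (center_iff hF).1 g.2
    have h1 := gu_h g.1 (Pi.single 0 1) (Pi.single 0 1)
    rw [hc, Matrix.smul_mulVec, Matrix.one_mulVec, hermForm_smul_left, h_smul_right hF, ← mul_assoc] at h1
    have h0 : h (Pi.single 0 1 : V) (Pi.single 0 1) = 1 := by simp [hermForm, Fin.sum_univ_three]
    rw [h0, mul_one, ← cj_pow hF] at h1
    have hc0 : c ≠ 0 := by rintro rfl; simp at h1
    refine ⟨⟨Units.mk0 c hc0, Units.ext (by simpa [pow_succ'] using h1)⟩, Subtype.ext (Subtype.ext (Units.ext ?_))⟩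
    show guVal _ = guVal g.1
    rw [guVal_guDiag, hc, Matrix.smul_one_eq_diagonal]
    rfl

include hF in
theorem natCard_quot : Nat.card (↥GU3 ⧸ Subgroup.center ↥GU3) = q ^ 3 * (q ^ 3 + 1) * (q ^ 2 - 1) := by
  have h1 := Subgroup.card_eq_card_quotient_mul_card_subgroup (Subgroup.center GU3)
  rw [natCard_GU_eq_SU hF (by norm_num), natCard_center hF, UnitMult.natCard_SU3 hF, mul_comm] at h1
  exact (Nat.eq_of_mul_eq_mul_right (by omega) h1).symm

include hF B in
theorem isCent_vStab (hq : ∃ k, q = 2 ^ k) : IsCent q (vStab (q := q) e) := by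
  classical
  obtain ⟨k, hk⟩ := hq
  have hk1 : 1 ≤ k := by
    rcases Nat.eq_zero_or_pos k with rfl | hk1
    · have := two_le_q hF; simp at hk; omega
    · exact hk1
  have hw := fun g : vStab (q := q) e => coords hF B g.2
  choose d r p hd hrp hact using hw
  have huniq : ∀ (g : vStab (q := q) e) {d' r' p' : F},
      (∀ x y z, guVal g.1 *ᵥ co e n f x y z = co e n f (x - cj r' * d' * y + p' * z) (d' * y + r' * z) z) →
      d g = d' ∧ r g = r' ∧ p g = p' := fun g d' r' p' h' => by
    have h1 := co_inj hF B ((hact g 0 1 0).symm.trans (h' 0 1 0))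
    have h2 := co_inj hF B ((hact g 0 0 1).symm.trans (h' 0 0 1))
    simp at h1 h2
    exact ⟨h1.2, h2.2, h2.1⟩
  have hmul : ∀ a b : vStab (q := q) e, d (a * b) = d a * d b ∧ r (a * b) = r a + d a * r b ∧
      p (a * b) = p a + p b - cj (r a) * d a * r b := fun a b => huniq _ fun x y z => by
    rw [Subgroup.coe_mul, gu_mulVec_mul, hact b, hact a, map_add, map_mul]
    congr 1
    · linear_combination (cj (r b) * y * d b) * hd a
    · ring
  have hone : d 1 = 1 ∧ r 1 = 0 ∧ p 1 = 0 := huniq _ fun x y z => by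
    rw [Subgroup.coe_one, show guVal (1 : GU3) = 1 from rfl, Matrix.one_mulVec, map_zero]
    congr 1 <;> ring
  have hext : ∀ a b : vStab (q := q) e, d a = d b → r a = r b → p a = p b → a = b := fun a b h1 h2 h3 =>
    Subtype.ext (gu_ext_co hF B fun x y z => by rw [hact, hact, h1, h2, h3])
  have hd0 : ∀ g, d g ≠ 0 := fun g h0 => by
    have := hd g; rw [h0, zero_mul] at this; exact zero_ne_one this
  let δ : vStab (q := q) e →* Fˣ := MonoidHom.mk' (fun g => Units.mk0 (d g) (hd0 g))
    fun a b => Units.ext (hmul a b).1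
  have hker : ∀ g, g ∈ δ.ker ↔ d g = 1 := fun g => by
    rw [MonoidHom.mem_ker, ← Units.val_eq_one]; rfl
  have hP : Nat.card δ.ker = q ^ 3 := by
    rw [← natCard_ok hF]
    refine Nat.card_congr (Equiv.ofBijective (fun g => ⟨(r g.1, p g.1), hrp g.1⟩) ⟨fun a b e' => ?_, fun w => ?_⟩)
    · have e2 := congrArg Subtype.val e'
      exact Subtype.ext (hext _ _ (((hker _).1 a.2).trans ((hker _).1 b.2).symm) (congrArg Prod.fst e2)
        (congrArg Prod.snd e2))
    · obtain ⟨g, hg, hgact⟩ := exists_elem hF B (d := 1) (by rw [map_one, mul_one]) w.2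
      obtain ⟨e1, e2, e3⟩ := huniq ⟨g, hg⟩ hgact
      exact ⟨⟨⟨g, hg⟩, (hker _).2 e1⟩, Subtype.ext (Prod.ext e2 e3)⟩
  have hrange : δ.range = normOne F q := by
    ext u
    constructor
    · rintro ⟨g, rfl⟩
      refine Units.ext ?_
      show (d g) ^ (q + 1) = 1
      rw [pow_succ', cj_pow hF]; exact hd g
    · intro hu
      have hu' : (u : F) * cj (u : F) = 1 := by
        rw [← cj_pow hF, ← pow_succ']; simpa using congrArg Units.val (show u ^ (q + 1) = 1 from hu)
      obtain ⟨g, hg, hgact⟩ := exists_elem hF B hu' (OK.zero hF)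
      exact ⟨⟨g, hg⟩, Units.ext (huniq ⟨g, hg⟩ hgact).1⟩
  have hC : Nat.card (vStab (q := q) e) = q ^ 3 * (q + 1) := by
    rw [Subgroup.card_eq_card_quotient_mul_card_subgroup δ.ker,
      Nat.card_congr (QuotientGroup.quotientKerEquivRange δ).toEquiv, hrange, natCard_normOne hF, hP, mul_comm]
  let A : Subgroup (vStab (q := q) e) :=
    { carrier := {g | d g = 1 ∧ r g = 0}
      one_mem' := ⟨hone.1, hone.2.1⟩
      mul_mem' := fun {a b} ha hb => ⟨by rw [(hmul a b).1, ha.1, hb.1, one_mul],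
        by rw [(hmul a b).2.1, ha.2, hb.2, mul_zero, add_zero]⟩
      inv_mem' := fun {a} ha => by
        have h1 := hmul a a⁻¹
        rw [mul_inv_cancel, hone.1, hone.2.1, ha.1, ha.2, one_mul, one_mul, zero_add] at h1
        exact ⟨h1.1.symm, h1.2.1.symm⟩ }
  have hAp : ∀ g ∈ A, cj (p g) = p g := fun g hg => by
    have h1 := hrp g
    rw [OK, hg.2, zero_mul, add_zero, CharTwo.add_eq_zero] at h1
    exact h1.symm
  refine ⟨δ.ker, A, inferInstance, hP, hC, fun a ha => Subgroup.mem_center_iff.2 fun g => ?_, ?_, fun x => ?_,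
    ?_, fun x hx hx1 u hu hxu => ?_⟩
  · obtain ⟨a1, a2, a3⟩ := hmul a g
    obtain ⟨b1, b2, b3⟩ := hmul g a
    refine hext _ _ (by rw [a1, b1, mul_comm]) ?_ ?_
    · rw [a2, b2, ha.1, ha.2, one_mul, mul_zero, add_zero, zero_add]
    · rw [a3, b3, ha.2, map_zero, zero_mul, zero_mul, mul_zero]; ring
  · have hfix := natCard_fixed hF
    refine Eq.trans ?_ hfix
    refine Nat.card_congr (Equiv.ofBijective (fun g => ⟨p g.1, hAp g.1 g.2⟩) ⟨fun a b e' => ?_, fun w => ?_⟩)
    · exact Subtype.ext (hext _ _ (a.2.1.trans b.2.1.symm) (a.2.2.trans b.2.2.symm) (congrArg Subtype.val e'))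
    · obtain ⟨g, hg, hgact⟩ := exists_elem hF B (d := 1) (by rw [map_one, mul_one])
        (OK.skew hF (show w.1 + cj w.1 = 0 by rw [w.2, CharTwo.add_self_eq_zero]))
      obtain ⟨e1, e2, e3⟩ := huniq ⟨g, hg⟩ hgact
      exact ⟨⟨⟨g, hg⟩, e1, e2⟩, Subtype.ext e3⟩
  · obtain ⟨m1, m2, m3⟩ := hmul x x
    constructor
    · rintro ⟨h1, h2⟩
      refine hext _ _ (by rw [m1, h1, hone.1, one_mul]) (by rw [m2, h2, mul_zero, zero_add, hone.2.1]) ?_
      rw [m3, h2, mul_zero, sub_zero, CharTwo.add_self_eq_zero, hone.2.2]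
    · intro hx
      rw [hx, hone.1] at m1
      rw [hx, hone.2.2] at m3
      have h1 : d x = 1 := by
        have : (d x - 1) * (d x - 1) = 0 := by linear_combination -m1 - CharTwo.add_self_eq_zero (d x - 1)
        exact sub_eq_zero.1 (mul_self_eq_zero.1 this)
      refine ⟨h1, ?_⟩
      rw [h1, mul_one, CharTwo.add_self_eq_zero, zero_sub, eq_comm, neg_eq_zero, mul_eq_zero, map_eq_zero,
        or_self] at m3
      exact m3
  · obtain ⟨z, hz⟩ := IsCyclic.exists_monoid_generator (α := normOne F q)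
    obtain ⟨g, hg⟩ : (z : Fˣ) ∈ δ.range := by rw [hrange]; exact z.2
    refine ⟨g, fun c => ?_⟩
    obtain ⟨i, hi⟩ := hz ⟨δ c, by rw [← hrange]; exact ⟨c, rfl⟩⟩
    refine ⟨i, ?_⟩
    rw [MonoidHom.mem_ker, map_mul, map_inv, map_pow, hg, inv_mul_eq_one]
    exact congrArg Subtype.val hi
  · have hu1 := (hker u).1 hu
    have hdx : d x ≠ 1 := fun h1 => hx1 (orderOf_eq_one_iff.1 (Nat.eq_one_of_dvd_coprimes (a := q ^ 3) (b := q + 1)
      (Nat.Coprime.pow_left 3 (by simp)) ((orderOf_dvd_of_pow_eq_one (by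
        rw [← hP]
        exact congrArg Subtype.val (pow_card_eq_one' (x := (⟨x, (hker x).2 h1⟩ : δ.ker))))))
      (orderOf_dvd_of_pow_eq_one hx)))
    refine ⟨hu1, ?_⟩
    have e1 := (hmul x u).2.1
    have e2 := (hmul u x).2.1
    rw [hxu, e2, hu1, one_mul] at e1
    have : (d x - 1) * r u = 0 := by linear_combination -e1
    exact (mul_eq_zero.1 this).resolve_left (sub_ne_zero.2 hdx)

include hF in
/-- An involution of `PGU₃(q)` with the centraliser of the expected shape. -/
theorem exists_model (hq : ∃ k, q = 2 ^ k) : ∃ y : ↥GU3 ⧸ Subgroup.center ↥GU3, orderOf y = 2 ∧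
    IsCent q (Subgroup.centralizer ({y} : Set (↥GU3 ⧸ Subgroup.center ↥GU3))) := by
  classical
  obtain ⟨e, n, f, B⟩ := exists_frame hF
  have hone : (1 : F) + cj 1 = 0 := by rw [map_one, CharTwo.add_self_eq_zero]
  set H := eOK_transvection hF B.P.ee hone
  set y : GU3 := suToGU (eSU hF H) with hy
  have hyv : guVal y = eMat q e 0 1 := rfl
  have he0 : e ≠ 0 := B.P.ne_zero
  have hy2 : guVal y * guVal y = 1 := by
    rw [hyv]
    refine Matrix.ext_iff_mulVec.2 fun v => ?_
    rw [← Matrix.mulVec_mulVec]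
    simp only [tv_apply' hF, h_add_left, h_smul_left, B.P.ee, mul_zero, add_zero, Matrix.one_mulVec, add_assoc,
      CharTwo.add_self_eq_zero]
  have hyc : y ∉ Subgroup.center GU3 := fun hc => by
    obtain ⟨c, hc⟩ := (center_iff hF).1 hc
    rw [hyv] at hc
    have h1 := congrArg (· *ᵥ e) hc
    simp only [tv_apply' hF, B.P.ee, mul_zero, zero_smul, add_zero, Matrix.smul_mulVec, Matrix.one_mulVec] at h1
    have hc1 : c = 1 := smul_left_injective F he0 (show c • e = (1 : F) • e by rw [one_smul]; exact h1.symm)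
    rw [hc1, one_smul] at hc
    refine one_ne_zero (tv_coeff_inj hF he0 (hc.trans ?_) : (1 : F) = 0)
    exact (eMat_zero hF e).symm
  refine ⟨QuotientGroup.mk y, ?_, ?_⟩
  · refine orderOf_eq_prime_iff.2 ⟨?_, fun h1 => hyc ((QuotientGroup.eq_one_iff y).1 h1)⟩
    rw [pow_two, ← QuotientGroup.mk_mul, show y * y = 1 from Subtype.ext (Units.ext hy2), QuotientGroup.mk_one]
  have hfix : ∀ g : GU3, g ∈ vStab e → g * y = y * g := fun g hg => Subtype.ext (Units.ext (by
    show guVal g * guVal y = guVal y * guVal g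
    rw [hyv, mul_eMat (gu_h g), Matrix.mulVec_zero, show guVal g *ᵥ e = e from hg]))
  let ι : vStab (q := q) e →*
      Subgroup.centralizer ({QuotientGroup.mk y} : Set (↥GU3 ⧸ Subgroup.center ↥GU3)) :=
    MonoidHom.codRestrict ((QuotientGroup.mk' _).comp (vStab e).subtype) _ fun g =>
      Subgroup.mem_centralizer_singleton_iff.2 (congrArg (QuotientGroup.mk' (Subgroup.center GU3)) (hfix g g.2))
  refine IsCent.of_equiv (MulEquiv.ofBijective ι ⟨?_, ?_⟩) (isCent_vStab hF B hq)
  · refine (injective_iff_map_eq_one _).2 fun g hg => ?_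
    obtain ⟨c, hc⟩ := (center_iff hF).1 ((QuotientGroup.eq_one_iff g.1).1 (congrArg Subtype.val hg))
    have h1 : guVal g.1 *ᵥ e = e := g.2
    rw [hc, Matrix.smul_mulVec, Matrix.one_mulVec] at h1
    have hc1 : c = 1 := smul_left_injective F he0 (show c • e = (1 : F) • e by rw [one_smul]; exact h1)
    exact Subtype.ext (Subtype.ext (Units.ext (hc.trans (by rw [hc1, one_smul]; rfl))))
  · rintro ⟨w, hw⟩
    obtain ⟨g, rfl⟩ := QuotientGroup.mk_surjective w
    rw [Subgroup.mem_centralizer_singleton_iff, ← QuotientGroup.mk_mul, ← QuotientGroup.mk_mul,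
      QuotientGroup.eq] at hw
    obtain ⟨l, hl⟩ := (center_iff hF).1 hw
    have e1 : guVal (y * g) = l • guVal (g * y) := by
      have : y * g = g * y * ((g * y)⁻¹ * (y * g)) := by group
      rw [this]
      show guVal (g * y) * guVal ((g * y)⁻¹ * (y * g)) = _
      rw [hl, Matrix.mul_smul, Matrix.mul_one]
    have e2 : guVal y = l • eMat q (guVal g *ᵥ e) 0 1 := by
      have h1 : guVal g * guVal y = eMat q (guVal g *ᵥ e) 0 1 * guVal g := by
        rw [hyv, mul_eMat (gu_h g), Matrix.mulVec_zero]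
      rw [show guVal (y * g) = guVal y * guVal g from rfl, show guVal (g * y) = guVal g * guVal y from rfl, h1,
        ← Matrix.smul_mul] at e1
      exact (Units.mul_left_inj g.1).1 e1
    haveI : Fact (Nat.Prime 2) := ⟨Nat.prime_two⟩
    have hge : h (guVal g *ᵥ e) (guVal g *ᵥ e) = 0 := by rw [gu_h, B.P.ee]
    obtain ⟨-, e3⟩ := eq_of_smul hF (n := 3) (by norm_num) (p := 2) rfl
      (eMat_pow_char hF H) (eMat_pow_char hF (eOK_transvection hF hge hone)) (hyv.symm.trans e2)
    have hge0 : guVal g *ᵥ e ≠ 0 := fun h0 => by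
      have h1 := gu_h g e f
      rw [h0, h_zero_left, B.P.ef] at h1
      exact zero_ne_one h1
    obtain ⟨a, ha0, ha⟩ := exists_smul_of_tv_eq hF hge0 one_ne_zero e3.symm
    rw [ha, tv_smul hF, mul_one] at e3
    have hN : a * cj a = 1 := tv_coeff_inj hF he0 e3.symm
    have hai : (Units.mk0 a ha0)⁻¹ ∈ normOne F q := inv_mem (show Units.mk0 a ha0 ∈ normOne F q from
      Units.ext (by
        show a ^ (q + 1) = 1
        rw [pow_succ', cj_pow hF, hN]))
    set z := guDiag (n := 3) hF fun _ => (⟨_, hai⟩ : normOne F q) with hz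
    have hzv : guVal z = a⁻¹ • (1 : Matrix (Fin 3) (Fin 3) F) := by
      rw [guVal_guDiag, Matrix.smul_one_eq_diagonal]
      simp
    refine ⟨⟨z * g, ?_⟩, Subtype.ext ?_⟩
    · show guVal (z * g) *ᵥ e = e
      rw [gu_mulVec_mul, ha, hzv, Matrix.smul_mulVec, Matrix.one_mulVec, smul_smul, inv_mul_cancel₀ ha0,
        one_smul]
    · show QuotientGroup.mk (z * g) = (QuotientGroup.mk g : ↥GU3 ⧸ Subgroup.center ↥GU3)
      rw [QuotientGroup.mk_mul, (QuotientGroup.eq_one_iff z).2 (scalar_mem_center hF _), one_mul]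

end Cfsg.Agent.Recog.PguThree
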