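import Cfsg.Agent.Lib.Recog.PguThree.Setup
import Cfsg.Agent.Lib.Recog.PguThree.Model
import Cfsg.Agent.Lib.Classical.UnitAutStructure
import Cfsg.Agent.Lib.Spor.SUFieldCongr

/-!
A group with one class of involutions with centralisers as in `PGU₃(q)` is `PGU₃(q)`: it embeds in the automorphism
group of `PSU₃(q)` and its field part is trivial.
-/

set_option autoImplicit false
set_option linter.unusedSectionVars false
set_option linter.style.haveILetI false

namespace Cfsg.Agent.Recog.PguThree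

open Matrix Cfsg Cfsg.Agent.Classical Cfsg.Agent.Classical.PSUAut
open Cfsg.Agent.Transfer.RankOne (invGen invGen_normal mem_invGen)

universe u v w

/-- `PSU` over isomorphic fields. -/
theorem psu_congr {K : Type u} [Field K] [Fintype K] {F : Type v} [Field F] [Fintype F] (n q : ℕ) (φ : K ≃+* F) :
    Nonempty (PSU n K q ≃* PSU n F q) := by
  let e : SU n K q ≃* SU n F q := Spor.SUCongr.equiv q φ
  refine ⟨QuotientGroup.congr _ _ e ?_⟩
  ext y
  constructor
  · rintro ⟨x, hx, rfl⟩
    refine Subgroup.mem_center_iff.2 fun z => ?_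
    obtain ⟨w, rfl⟩ := e.surjective z
    show e w * e x = e x * e w
    rw [← map_mul, ← map_mul, Subgroup.mem_center_iff.1 hx w]
  · intro hy
    refine ⟨e.symm y, Subgroup.mem_center_iff.2 fun z => e.injective ?_, e.apply_symm_apply y⟩
    rw [map_mul, map_mul, e.apply_symm_apply, Subgroup.mem_center_iff.1 hy (e z)]

variable {F : Type v} [Field F] [Fintype F] [CharP F 2] {q : ℕ}

theorem exists_pow_two (hF : Fintype.card F = q ^ 2) (hq : 2 < q) : ∃ n, 2 ≤ n ∧ q = 2 ^ n := by
  haveI : Fact (Nat.Prime 2) := ⟨Nat.prime_two⟩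
  obtain ⟨m, -, hm⟩ := FiniteField.card F 2
  obtain ⟨k, -, hk⟩ := (Nat.dvd_prime_pow Nat.prime_two).1
    (show q ∣ 2 ^ (m : ℕ) from hm ▸ hF ▸ dvd_pow_self q two_ne_zero)
  refine ⟨k, ?_, hk⟩
  by_contra h
  push Not at h
  interval_cases k <;> omega

theorem sq_refl_of_fix (hF : Fintype.card F = q ^ 2) (σ : F ≃+* F)
    (hσ : ∀ b : F, b + qFrob hF b = 0 → σ b = b) (z : F) : σ (σ z) = z := by
  set cj := qFrob hF
  have hs : σ (z + cj z) = z + cj z := hσ _ (by
    rw [map_add, qFrob_qFrob hF, add_comm (cj z) z]; exact CharTwo.add_self_eq_zero _)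
  have hp : σ (z * cj z) = z * cj z := hσ _ (by
    rw [map_mul, qFrob_qFrob hF, mul_comm (cj z) z]; exact CharTwo.add_self_eq_zero _)
  have hcc : σ (cj z) = cj (σ z) := by simp only [cj, qFrob_apply, map_pow]
  rw [map_add] at hs
  rw [map_mul] at hp
  have h : (σ z - z) * (σ z - cj z) = 0 := by linear_combination (σ z) * hs - hp
  rcases mul_eq_zero.1 h with h | h <;> rw [sub_eq_zero] at h
  · rw [h, h]
  · rw [h, hcc, h]; exact qFrob_qFrob hF z

set_option maxHeartbeats 800000 in
theorem iso_of_base {G : Type u} [Group G] [Finite G] {x : G} (B : Base G q x) (hF : Fintype.card F = q ^ 2) :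
    Nonempty (G ≃* (↥(GU 3 F q) ⧸ Subgroup.center ↥(GU 3 F q))) := by
  classical
  have hq4 := (qFacts B).1
  have hs : ¬ ((3 : ℕ) = 3 ∧ q = 2) := fun h => by omega
  obtain ⟨hG, ⟨K, iK, iK', hK, ⟨e0⟩⟩, -, -⟩ := structure_main B
  obtain ⟨e1⟩ := psu_congr 3 q (FiniteField.ringEquivOfCardEq (K := K) (K' := F) (by rw [hK, hF]))
  haveI := invGen_normal G
  let e : invGen G ≃* PSU 3 F q := e0.trans e1
  let ψ : G →* MulAut (PSU 3 F q) := (MulAut.congr e).toMonoidHom.comp (MulAut.conjNormal (H := invGen G))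
  have hψ : ∀ g (l : invGen G), ψ g (e l) = e (MulAut.conjNormal g l) := fun g l => by
    show e (MulAut.conjNormal g (e.symm (e l))) = _
    rw [e.symm_apply_apply]
  have hinj : Function.Injective ψ := (injective_iff_map_eq_one ψ).2 fun g hg => eq_one_of_comm B fun s hs => by
    have h1 := hψ g ⟨s, mem_invGen hs⟩
    rw [hg, MulAut.one_apply] at h1
    have h2 := congrArg Subtype.val (e.injective h1)
    rw [MulAut.conjNormal_apply] at h2
    exact mul_inv_eq_iff_eq_mul.1 h2.symm
  obtain ⟨Φ, -, hΦ⟩ := exists_fieldHom (F := F) hF (le_refl 3) hs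
  have hrange : ∀ g : G, ψ g ∈ (inndiagHom 3 F q).range := by
    -- an involution matching a transvection
    obtain ⟨v, hv0, hvv⟩ := exists_isotropic hF (n := 3) (by norm_num)
    let T : ∀ b : F, b + qFrob hF b = 0 → PSU 3 F q := fun b hb =>
      suToPSU 3 F q (eSU hF (eOK_transvection hF hvv hb))
    have hone : (1 : F) + qFrob hF 1 = 0 := by rw [map_one, CharTwo.add_self_eq_zero]
    have hTmul : ∀ b c hb hc, T b hb * T c hc = T c hc * T b hb := fun b c hb hc => by
      rw [← map_mul, ← map_mul]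
      refine congrArg _ (suVal_ext ?_)
      refine Matrix.ext_iff_mulVec.2 fun w => ?_
      rw [Cfsg.Agent.Classical.suVal_mul, Cfsg.Agent.Classical.suVal_mul, ← Matrix.mulVec_mulVec,
        ← Matrix.mulVec_mulVec, suVal_eSU, suVal_eSU]
      simp only [tv_apply' hF, h_add_left, h_smul_left, hvv, mul_zero, add_zero]
      abel
    have hTsq : ∀ b hb, T b hb * T b hb = 1 := fun b hb => by
      rw [← map_mul, ← map_one (suToPSU 3 F q)]
      refine congrArg _ (suVal_ext ?_)
      refine Matrix.ext_iff_mulVec.2 fun w => ?_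
      rw [Cfsg.Agent.Classical.suVal_mul, ← Matrix.mulVec_mulVec, suVal_eSU,
        show suVal (1 : SU 3 F q) = 1 from rfl, Matrix.one_mulVec]
      simp only [tv_apply' hF, h_add_left, h_smul_left, hvv, mul_zero, add_zero, add_assoc,
        CharTwo.add_self_eq_zero]
    have hT1 : T 1 hone ≠ 1 := fun h1 => by
      have h2 := eMat_eq_of_pi_eq hF (by norm_num) (eOK_transvection hF hvv hone) (EOK.zero hF hvv)
        (h1.trans (by rw [eSU_zero hF hvv, map_one]))
      exact one_ne_zero (tv_coeff_inj hF hv0 h2)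
    set y : G := ((e.symm (T 1 hone) : invGen G) : G)
    have hy1 : y ≠ 1 := fun h => hT1 (by
      have h1 : e.symm (T 1 hone) = 1 := Subtype.ext h
      simpa using congrArg e h1)
    have hy2 : y * y = 1 := by
      have h1 := congrArg e.symm (hTsq 1 hone)
      rw [map_mul, map_one] at h1
      exact congrArg Subtype.val h1
    have By := B.at hy1 hy2
    obtain ⟨-, -, hdec, hPL⟩ := structure_main By
    have hfixA : ∀ c ∈ Subgroup.centralizer ({y} : Set G), ∀ b hb, ψ c (T b hb) = T b hb := fun c hc b hb => by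
      set a := e.symm (T b hb) with ha
      have haA : (a : G) ∈ aGrp y := by
        refine (mem_aGrp By).2 ⟨Subgroup.mem_centralizer_singleton_iff.2 ?_, ?_⟩
        · have h1 := congrArg e.symm (hTmul b 1 hb hone)
          rw [map_mul, map_mul] at h1
          exact congrArg Subtype.val h1
        · have h1 := congrArg e.symm (hTsq b hb)
          rw [map_mul, map_one] at h1
          exact congrArg Subtype.val h1
      rw [← e.apply_symm_apply (T b hb), ← ha, hψ]
      refine congrArg e (Subtype.ext ?_)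
      rw [MulAut.conjNormal_apply, aGrp_central By haA hc, mul_inv_cancel_right]
    intro g
    obtain ⟨l, hl, hlc⟩ := hdec g
    set c := l⁻¹ * g with hc
    have hψL : ∀ m ∈ invGen G, ψ m ∈ (inndiagHom 3 F q).range := fun m hm => by
      refine inn_le_inndiag ⟨e ⟨m, hm⟩, MulEquiv.ext fun z => ?_⟩
      obtain ⟨z, rfl⟩ := e.surjective z
      rw [hψ, MulAut.conj_apply, ← map_inv, ← map_mul, ← map_mul]
      refine congrArg e (Subtype.ext ?_)
      rw [MulAut.conjNormal_apply]
      rfl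
    rw [show g = l * c by rw [hc, mul_inv_cancel_left], map_mul]
    refine mul_mem (hψL l hl) ?_
    rw [← hΦ, MonoidHom.mem_ker]
    obtain ⟨k, σ, hkσ⟩ := PSUAut.exists_param hF (le_refl 3) hs (ψ c)
    have hσ : ∀ b : F, b + qFrob hF b = 0 → σ b = b := by
      have key : ∀ b (hb : b + qFrob hF b = 0),
          eMat q (UnitDiagonalOut.guVal k *ᵥ (σ ∘ v)) 0 (σ b) = eMat q v 0 b := fun b hb => by
        have h1 := hfixA c hlc b hb
        rw [hkσ, psuSemi_mk] at h1
        have hw : hermForm 3 F q (UnitDiagonalOut.guVal k *ᵥ (σ ∘ v)) (UnitDiagonalOut.guVal k *ᵥ (σ ∘ v)) = 0 := by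
          show hermForm 3 F q (((k : GL (Fin 3) F) : Matrix (Fin 3) (Fin 3) F) *ᵥ _) _ = 0
          rw [mem_GU.1 k.2, h_comp, hvv, map_zero]
        have hb' : σ b + qFrob hF (σ b) = 0 := by
          rw [qFrob_apply, ← map_pow, ← map_add, ← qFrob_apply hF, hb, map_zero]
        refine eMat_eq_of_pi_eq hF (by norm_num) (eOK_transvection hF hw hb') (eOK_transvection hF hvv hb)
          (Eq.trans (congrArg _ (suVal_ext ?_)) h1)
        rw [suVal_eSU, suSemi_eMat k σ _ (suVal_eSU hF _),
          show σ ∘ (0 : Fin 3 → F) = 0 from funext fun i => map_zero σ, Matrix.mulVec_zero]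
      intro b hb
      have k1 := key 1 hone
      rw [map_one] at k1
      obtain ⟨a, ha0, ha⟩ := exists_smul_of_tv_eq hF hv0 one_ne_zero k1.symm
      have hw0 : UnitDiagonalOut.guVal k *ᵥ (σ ∘ v) ≠ 0 := fun h0 => hv0 (by rw [ha, h0, smul_zero])
      conv_rhs at k1 => rw [ha, tv_smul hF, mul_one]
      have hN := tv_coeff_inj hF hw0 k1
      have k2 := key b hb
      conv_rhs at k2 => rw [ha, tv_smul hF, ← hN, one_mul]
      exact tv_coeff_inj hF hw0 k2
    have h2 : Φ (ψ c) ^ 2 = 1 := by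
      rw [← map_pow, ← MonoidHom.mem_ker, hΦ, hkσ, pow_two, psuSemi_mul',
        show (σ : RingAut F) * σ = 1 from RingEquiv.ext (sq_refl_of_fix hF σ hσ)]
      exact ⟨_, rfl⟩
    have h3 : Φ (ψ c) ^ (q + 1) = 1 := by
      rw [← map_pow, ← map_pow, ← MonoidHom.mem_ker, hΦ]
      exact hψL _ (hPL (pow_mem_pGrp By hlc))
    exact eq_one_of_pow_coprime (qFacts B).2.2.2.2.2.1 h2 h3
  let E : (↥(GU 3 F q) ⧸ Subgroup.center ↥(GU 3 F q)) ≃* (inndiagHom 3 F q).range :=
    (QuotientGroup.quotientMulEquivOfEq (Subgroup.ext fun g => by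
      rw [MonoidHom.mem_ker, ker_inndiagHom_iff hF (le_refl 3), center_iff hF])).trans
      (QuotientGroup.quotientKerEquivRange (inndiagHom 3 F q))
  haveI : Finite (MulAut (PSU 3 F q)) := Finite.of_injective (fun f => (f : PSU 3 F q → PSU 3 F q))
    DFunLike.coe_injective
  have heq : ψ.range = (inndiagHom 3 F q).range := by
    refine Subgroup.eq_of_le_of_card_ge (fun _ ⟨g, hg⟩ => hg ▸ hrange g) (le_of_eq ?_)
    rw [← Nat.card_congr E.toEquiv, natCard_quot hF,
      ← Nat.card_congr (MonoidHom.ofInjective hinj).toEquiv, hG]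
  exact ⟨((MonoidHom.ofInjective hinj).trans (MulEquiv.subgroupCongr heq)).trans E.symm⟩

theorem result_main {G : Type u} [Group G] [Finite G] (hF : Fintype.card F = q ^ 2) (hq : 2 < q)
    (heven : Even (Nat.card G)) (hconj : ∀ s t : G, orderOf s = 2 → orderOf t = 2 → IsConj s t)
    (hC : ∀ (x : G) (y : ↥(GU 3 F q) ⧸ Subgroup.center ↥(GU 3 F q)), orderOf x = 2 → orderOf y = 2 →
      Nonempty (↥(Subgroup.centralizer ({x} : Set G)) ≃*
        ↥(Subgroup.centralizer ({y} : Set (↥(GU 3 F q) ⧸ Subgroup.center ↥(GU 3 F q))))))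
    (hS : ∀ P : Sylow 2 G, ¬ (P : Subgroup G).Normal) :
    Nonempty (G ≃* (↥(GU 3 F q) ⧸ Subgroup.center ↥(GU 3 F q))) := by
  haveI : Fact (Nat.Prime 2) := ⟨Nat.prime_two⟩
  obtain ⟨n, hn, hqn⟩ := exists_pow_two hF hq
  obtain ⟨x, hx⟩ := exists_prime_orderOf_dvd_card' (G := G) 2 (even_iff_two_dvd.1 heven)
  obtain ⟨y, hy, hcent⟩ := exists_model hF ⟨n, hqn⟩
  obtain ⟨e⟩ := hC x y hx hy
  have hord : ∀ s : G, s ≠ 1 → s * s = 1 → orderOf s = 2 := fun s h1 h2 =>
    orderOf_eq_prime_iff.2 ⟨by rw [pow_two, h2], h1⟩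
  exact iso_of_base (x := x) ⟨⟨n, hn, hqn⟩, fun h => by
      rw [h, orderOf_one] at hx; omega,
    by rw [← pow_two, ← hx, pow_orderOf_eq_one],
    fun s t s1 s2 t1 t2 => hconj s t (hord s s1 s2) (hord t t1 t2), hcent.of_equiv e.symm, hS⟩ hF

end Cfsg.Agent.Recog.PguThree
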