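import Cfsg.Agent.Lib.Recog.PguThree.Defs

/-!
A group with one class of involutions whose centralisers look like those of `PGU₃(q)`: the group `A` of the
involutions commuting with an involution `x`, its Sylow 2-subgroup `P` and the strongly embedded subgroup `M`.
-/

set_option autoImplicit false
set_option linter.unusedSectionVars false
set_option linter.style.haveILetI false

namespace Cfsg.Agent.Recog.PguThree

universe u

variable {G : Type u} [Group G]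

/-- The hypotheses, at a chosen involution. -/
structure Base (G : Type u) [Group G] (q : ℕ) (x : G) : Prop where
  pow : ∃ n, 2 ≤ n ∧ q = 2 ^ n
  ne : x ≠ 1
  sq : x * x = 1
  conj : ∀ s t : G, s ≠ 1 → s * s = 1 → t ≠ 1 → t * t = 1 → IsConj s t
  cent : IsCent q (Subgroup.centralizer ({x} : Set G))
  nn : ∀ P : Sylow 2 G, ¬ (P : Subgroup G).Normal

/-- The group of the involutions commuting with `x`. -/
def aGrp (x : G) : Subgroup G := Subgroup.closure {g | g ∈ Subgroup.centralizer ({x} : Set G) ∧ g * g = 1}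

/-- The Sylow 2-subgroup of the centraliser of `x`. -/
def pGrp (q : ℕ) (x : G) : Subgroup G :=
  Subgroup.closure {g | g ∈ Subgroup.centralizer ({x} : Set G) ∧ g ^ (q ^ 3) = 1}

/-- The normaliser of `aGrp x`. -/
def mGrp (x : G) : Subgroup G := Subgroup.normalizer (aGrp x : Set G)

local notation "C(" g ")" => Subgroup.centralizer ({g} : Set _)

theorem conj_mem_cent (g : G) {x c : G} : g * c * g⁻¹ ∈ C(g * x * g⁻¹) ↔ c ∈ C(x) := by
  rw [Subgroup.mem_centralizer_singleton_iff, Subgroup.mem_centralizer_singleton_iff, conj_mul, conj_mul,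
    mul_left_inj, mul_right_inj]

/-- Conjugation as an isomorphism of centralisers. -/
def centConj (g x : G) : C(x) ≃* C(g * x * g⁻¹) where
  toFun c := ⟨g * c * g⁻¹, (conj_mem_cent g).2 c.2⟩
  invFun c := ⟨g⁻¹ * c * g, (conj_mem_cent g).1 (by simpa [mul_assoc] using c.2)⟩
  left_inv c := Subtype.ext (show g⁻¹ * (g * c * g⁻¹) * g = c by group)
  right_inv c := Subtype.ext (show g * (g⁻¹ * c * g) * g⁻¹ = c by group)
  map_mul' c d := Subtype.ext (show g * (c * d : G) * g⁻¹ = g * c * g⁻¹ * (g * d * g⁻¹) by group)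

/-- Counting through the fibres of a map with cosets as fibres. -/
theorem card_eq_of_fibres {H : Type u} [Group H] (C : Subgroup H) {α : Type u} (f : H → α)
    (hs : ∀ a, ∃ g, f g = a) (hi : ∀ g g', f g = f g' ↔ g⁻¹ * g' ∈ C) :
    Nat.card H = Nat.card α * Nat.card C := by
  let F : H ⧸ C → α := fun c => Quotient.liftOn' c f fun g g' e => (hi g g').2 (QuotientGroup.leftRel_apply.1 e)
  have hF : Function.Bijective F := by
    refine ⟨fun c c' => ?_, fun a => ?_⟩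
    · induction c using QuotientGroup.induction_on with | _ g =>
      induction c' using QuotientGroup.induction_on with | _ g' =>
      exact fun e => QuotientGroup.eq.2 ((hi g g').1 e)
    · obtain ⟨g, hg⟩ := hs a
      exact ⟨g, hg⟩
  rw [Subgroup.card_eq_card_quotient_mul_card_subgroup C, Nat.card_congr (Equiv.ofBijective F hF)]

variable {q : ℕ} {x : G} (B : Base G q x)
include B

theorem Base.at {y : G} (hy : y ≠ 1) (hy2 : y * y = 1) : Base G q y := by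
  obtain ⟨g, hg⟩ := isConj_iff.1 (B.conj x y B.ne B.sq hy hy2)
  exact ⟨B.pow, hy, hy2, B.conj, hg ▸ IsCent.of_equiv (centConj g x) B.cent, B.nn⟩

theorem qFacts : 4 ≤ q ∧ Even q ∧ Nat.Coprime (q ^ 3) (q + 1) ∧ Nat.Coprime (q ^ 3) (q - 1) ∧
    Nat.Coprime (q - 1) (q + 1) ∧ Nat.Coprime 2 (q + 1) ∧ Nat.Coprime 2 (q - 1) := by
  obtain ⟨n, hn, rfl⟩ := B.pow
  have h4 : 4 ≤ 2 ^ n := (show 4 = 2 ^ 2 by norm_num) ▸ Nat.pow_le_pow_right (by norm_num) hn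
  have he : Even (2 ^ n) := (Nat.even_pow.2 ⟨even_two, by omega⟩)
  obtain ⟨m, hm⟩ := he
  have h2 : Nat.Coprime 2 (2 ^ n + 1) := Nat.coprime_two_left.2 ⟨m, by omega⟩
  have h2' : Nat.Coprime 2 (2 ^ n - 1) := Nat.coprime_two_left.2 ⟨m - 1, by omega⟩
  refine ⟨h4, ⟨m, hm⟩, (h2.pow_left n).pow_left 3, (h2'.pow_left n).pow_left 3, ?_, h2, h2'⟩
  refine Nat.Coprime.symm ?_
  rw [show 2 ^ n + 1 = 2 + (2 ^ n - 1) by omega, Nat.coprime_add_self_left]
  exact h2'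

omit B in
theorem eq_one_of_pow_coprime {g : G} {a b : ℕ} (hab : Nat.Coprime a b) (ha : g ^ a = 1) (hb : g ^ b = 1) :
    g = 1 :=
  orderOf_eq_one_iff.1 (Nat.eq_one_of_dvd_coprimes hab (orderOf_dvd_of_pow_eq_one ha)
    (orderOf_dvd_of_pow_eq_one hb))

theorem cent_facts :
    (∀ g, g ∈ aGrp x ↔ g ∈ C(x) ∧ g * g = 1) ∧ Nat.card (aGrp x) = q ∧
      (∀ a ∈ aGrp x, ∀ c ∈ C(x), c * a = a * c) ∧
    (∀ g, g ∈ pGrp q x ↔ g ∈ C(x) ∧ g ^ (q ^ 3) = 1) ∧ Nat.card (pGrp q x) = q ^ 3 ∧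
      (∀ c ∈ C(x), c ^ (q + 1) ∈ pGrp q x) ∧ Nat.card C(x) = q ^ 3 * (q + 1) ∧
      (∃ g ∈ C(x), ∀ c ∈ C(x), ∃ i : ℕ, (g ^ i)⁻¹ * c ∈ pGrp q x) ∧
      ∀ h ∈ C(x), h ^ (q + 1) = 1 → h ≠ 1 → ∀ p ∈ pGrp q x, h * p = p * h → p ∈ aGrp x := by
  obtain ⟨P, A, hPn, hcP, hcC, hA, hcA, hsq, ⟨g0, hg0⟩, hf⟩ := B.cent
  obtain ⟨-, -, hco, -⟩ := qFacts B
  haveI : Finite P := Nat.finite_of_card_ne_zero (by rw [hcP]; have := (qFacts B).1; positivity)
  have hpidx : P.index = q + 1 := by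
    have h1 := P.card_mul_index
    rw [hcP, hcC] at h1
    exact Nat.eq_of_mul_eq_mul_left (hcP ▸ Nat.card_pos) h1
  have hpow : ∀ c : C(x), c ^ (q + 1) ∈ P := fun c => hpidx ▸ P.pow_index_mem c
  have hP : ∀ c : C(x), c ∈ P ↔ c ^ (q ^ 3) = 1 := fun c => by
    refine ⟨fun hc => ?_, fun hc => ?_⟩
    · rw [← hcP]; exact congrArg Subtype.val (pow_card_eq_one' (x := (⟨c, hc⟩ : P)))
    · obtain ⟨m, hm⟩ := exists_pow_eq_self_of_coprime
        (Nat.Coprime.coprime_dvd_right (orderOf_dvd_of_pow_eq_one hc) hco.symm)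
      rw [← hm]; exact pow_mem (hpow c) m
  have hPe : pGrp q x = P.map C(x).subtype := by
    refine le_antisymm ((Subgroup.closure_le _).2 fun g hg => ?_) ?_
    · exact ⟨⟨g, hg.1⟩, (hP _).2 (Subtype.ext hg.2), rfl⟩
    · rintro _ ⟨c, hc, rfl⟩
      exact Subgroup.subset_closure ⟨c.2, congrArg Subtype.val ((hP c).1 hc)⟩
  have hAe : aGrp x = A.map C(x).subtype := by
    refine le_antisymm ((Subgroup.closure_le _).2 fun g hg => ?_) ?_
    · exact ⟨⟨g, hg.1⟩, (hsq _).2 (Subtype.ext hg.2), rfl⟩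
    · rintro _ ⟨c, hc, rfl⟩
      exact Subgroup.subset_closure ⟨c.2, congrArg Subtype.val ((hsq c).1 hc)⟩
  have hinj := C(x).subtype_injective
  have memA : ∀ c : C(x), (c : G) ∈ aGrp x ↔ c ∈ A := fun c => by
    rw [hAe]; exact Subgroup.mem_map_iff_mem hinj
  have memP : ∀ c : C(x), (c : G) ∈ pGrp q x ↔ c ∈ P := fun c => by
    rw [hPe]; exact Subgroup.mem_map_iff_mem hinj
  have leA : ∀ g ∈ aGrp x, g ∈ C(x) := fun g hg => by
    rw [hAe] at hg; obtain ⟨c, -, rfl⟩ := hg; exact c.2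
  have leP : ∀ g ∈ pGrp q x, g ∈ C(x) := fun g hg => by
    rw [hPe] at hg; obtain ⟨c, -, rfl⟩ := hg; exact c.2
  refine ⟨fun g => ⟨fun hg => ⟨leA g hg, ?_⟩, fun hg => Subgroup.subset_closure hg⟩, ?_, fun a ha c hc => ?_,
    fun g => ⟨fun hg => ⟨leP g hg, ?_⟩, fun hg => Subgroup.subset_closure hg⟩, ?_, fun c hc => ?_, hcC,
    ⟨g0, g0.2, fun c hc => ?_⟩, fun h hh h1 h2 p hp e => ?_⟩
  · exact congrArg Subtype.val ((hsq ⟨g, leA g hg⟩).1 ((memA ⟨g, leA g hg⟩).1 hg))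
  · rw [hAe, Subgroup.card_map_of_injective hinj, hcA]
  · exact congrArg Subtype.val (Subgroup.mem_center_iff.1 (hA ((memA ⟨a, leA a ha⟩).1 ha)) ⟨c, hc⟩)
  · exact congrArg Subtype.val ((hP ⟨g, leP g hg⟩).1 ((memP ⟨g, leP g hg⟩).1 hg))
  · rw [hPe, Subgroup.card_map_of_injective hinj, hcP]
  · exact (memP _).2 (hpow ⟨c, hc⟩)
  · obtain ⟨i, hi⟩ := hg0 ⟨c, hc⟩
    exact ⟨i, (memP _).2 hi⟩
  · exact (memA ⟨p, leP p hp⟩).2 (hf ⟨h, hh⟩ (Subtype.ext h1) (fun e' => h2 (congrArg Subtype.val e'))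
      ⟨p, leP p hp⟩ ((memP ⟨p, leP p hp⟩).1 hp) (Subtype.ext e))

theorem mem_aGrp {g : G} : g ∈ aGrp x ↔ g ∈ C(x) ∧ g * g = 1 := (cent_facts B).1 g
theorem card_aGrp : Nat.card (aGrp x) = q := (cent_facts B).2.1
theorem aGrp_central {a c : G} (ha : a ∈ aGrp x) (hc : c ∈ C(x)) : c * a = a * c :=
  (cent_facts B).2.2.1 a ha c hc
theorem mem_pGrp {g : G} : g ∈ pGrp q x ↔ g ∈ C(x) ∧ g ^ (q ^ 3) = 1 := (cent_facts B).2.2.2.1 g
theorem card_pGrp : Nat.card (pGrp q x) = q ^ 3 := (cent_facts B).2.2.2.2.1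
theorem pow_mem_pGrp {c : G} (hc : c ∈ C(x)) : c ^ (q + 1) ∈ pGrp q x := (cent_facts B).2.2.2.2.2.1 c hc
theorem card_cent : Nat.card C(x) = q ^ 3 * (q + 1) := (cent_facts B).2.2.2.2.2.2.1
theorem exists_gen : ∃ g ∈ C(x), ∀ c ∈ C(x), ∃ i : ℕ, (g ^ i)⁻¹ * c ∈ pGrp q x :=
  (cent_facts B).2.2.2.2.2.2.2.1
theorem fpf {h p : G} (hh : h ∈ C(x)) (h1 : h ^ (q + 1) = 1) (h2 : h ≠ 1) (hp : p ∈ pGrp q x)
    (e : h * p = p * h) : p ∈ aGrp x :=
  (cent_facts B).2.2.2.2.2.2.2.2 h hh h1 h2 p hp e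

theorem x_mem_aGrp : x ∈ aGrp x := (mem_aGrp B).2 ⟨Subgroup.mem_centralizer_singleton_iff.2 rfl, B.sq⟩

theorem pGrp_le : pGrp q x ≤ C(x) := fun _ h => ((mem_pGrp B).1 h).1

theorem aGrp_le : aGrp x ≤ pGrp q x := fun g hg => by
  obtain ⟨m, hm⟩ := (qFacts B).2.1.pow_of_ne_zero (three_ne_zero : (3 : ℕ) ≠ 0)
  exact (mem_pGrp B).2 ⟨((mem_aGrp B).1 hg).1, by
    rw [hm, ← two_mul, pow_mul, pow_two, ((mem_aGrp B).1 hg).2, one_pow]⟩

theorem x_mem_pGrp : x ∈ pGrp q x := aGrp_le B (x_mem_aGrp B)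

theorem isPGroup_pGrp : IsPGroup 2 (pGrp q x) := by
  obtain ⟨n, -, hn⟩ := B.pow
  exact IsPGroup.of_card (n := n * 3) (by rw [card_pGrp B, hn, ← pow_mul])

theorem conj_pGrp {c p : G} (hc : c ∈ C(x)) (hp : p ∈ pGrp q x) : c * p * c⁻¹ ∈ pGrp q x :=
  (mem_pGrp B).2 ⟨mul_mem (mul_mem hc (pGrp_le B hp)) (inv_mem hc), by
    rw [conj_pow, ((mem_pGrp B).1 hp).2, mul_one, mul_inv_cancel]⟩

variable [Finite G]

theorem cent_eq {y : G} (hy : y ∈ aGrp x) (hy1 : y ≠ 1) : C(y) = C(x) :=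
  (Subgroup.eq_of_le_of_card_ge (fun c hc => Subgroup.mem_centralizer_singleton_iff.2 (aGrp_central B hy hc))
    (le_of_eq (by rw [card_cent B, card_cent (B.at hy1 ((mem_aGrp B).1 hy).2)]))).symm

theorem aGrp_eq {y : G} (hy : y ∈ aGrp x) (hy1 : y ≠ 1) : aGrp y = aGrp x :=
  Subgroup.ext fun g => by
    rw [mem_aGrp (B.at hy1 ((mem_aGrp B).1 hy).2), mem_aGrp B, cent_eq B hy hy1]

theorem mem_mGrp {g : G} : g ∈ mGrp x ↔ g * x * g⁻¹ ∈ aGrp x := by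
  refine ⟨fun hg => (Subgroup.mem_normalizer_iff.1 hg x).1 (x_mem_aGrp B), fun hg => ?_⟩
  have h1 : g * x * g⁻¹ ≠ 1 := fun e => B.ne (conj_eq_one_iff.1 e)
  refine Subgroup.mem_normalizer_iff.2 fun a => ?_
  have hB := B.at h1 ((mem_aGrp B).1 hg).2
  show a ∈ aGrp x ↔ g * a * g⁻¹ ∈ aGrp x
  conv_rhs => rw [← aGrp_eq B hg h1, mem_aGrp hB, conj_mem_cent, conj_mul, conj_eq_one_iff]
  exact mem_aGrp B

theorem cent_le_mGrp : C(x) ≤ mGrp x := fun c hc => (mem_mGrp B).2 (by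
  rw [aGrp_central B (x_mem_aGrp B) hc, mul_inv_cancel_right]; exact x_mem_aGrp B)

theorem conj_cent {g c : G} (hg : g ∈ mGrp x) : g * c * g⁻¹ ∈ C(x) ↔ c ∈ C(x) := by
  conv_lhs => rw [← cent_eq B ((mem_mGrp B).1 hg) fun e => B.ne (conj_eq_one_iff.1 e)]
  exact conj_mem_cent g

theorem conj_pGrp_m {g p : G} (hg : g ∈ mGrp x) (hp : p ∈ pGrp q x) : g * p * g⁻¹ ∈ pGrp q x :=
  (mem_pGrp B).2 ⟨(conj_cent B hg).2 (pGrp_le B hp), by
    rw [conj_pow, ((mem_pGrp B).1 hp).2, mul_one, mul_inv_cancel]⟩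

theorem le_pGrp {S : Subgroup G} (hS : IsPGroup 2 S) (hx : x ∈ S) : S ≤ pGrp q x := by
  haveI : Fact (Nat.Prime 2) := ⟨Nat.prime_two⟩
  haveI : Nontrivial S := ⟨⟨⟨x, hx⟩, 1, fun e => B.ne (congrArg Subtype.val e)⟩⟩
  haveI := hS.center_nontrivial
  obtain ⟨⟨k, hk⟩, hpos⟩ : (∃ k, Nat.card (Subgroup.center S) = 2 ^ k) ∧ 1 < Nat.card (Subgroup.center S) :=
    ⟨IsPGroup.iff_card.1 (hS.to_subgroup _), Finite.one_lt_card⟩
  obtain ⟨z, hz⟩ := exists_prime_orderOf_dvd_card' (G := Subgroup.center S) 2 (by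
    rw [hk]
    refine dvd_pow_self 2 fun e => ?_
    rw [hk, e, pow_zero] at hpos
    exact lt_irrefl _ hpos)
  have hz2 : (z : S).1 * (z : S).1 = 1 := by
    have h1 := congrArg (fun w : Subgroup.center S => ((w : S) : G)) (pow_orderOf_eq_one z)
    simpa [hz, pow_two] using h1
  have hz1 : (z : S).1 ≠ 1 := fun e => by
    rw [show z = 1 from Subtype.ext (Subtype.ext e), orderOf_one] at hz
    exact absurd hz (by norm_num)
  have hcomm : ∀ s ∈ S, s * (z : S).1 = (z : S).1 * s := fun s hs =>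
    congrArg Subtype.val (Subgroup.mem_center_iff.1 z.2 ⟨s, hs⟩)
  have hzA : (z : S).1 ∈ aGrp x :=
    (mem_aGrp B).2 ⟨Subgroup.mem_centralizer_singleton_iff.2 (hcomm x hx).symm, hz2⟩
  intro s hs
  have hsC : s ∈ C(x) := cent_eq B hzA hz1 ▸ Subgroup.mem_centralizer_singleton_iff.2 (hcomm s hs)
  refine (mem_pGrp B).2 ⟨hsC, orderOf_dvd_iff_pow_eq_one.1 ?_⟩
  obtain ⟨j, hj⟩ := hS ⟨s, hs⟩
  have h1 : orderOf s ∣ 2 ^ j := orderOf_dvd_of_pow_eq_one (congrArg Subtype.val hj)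
  have h2 : orderOf s ∣ q ^ 3 * (q + 1) := card_cent B ▸ Subgroup.orderOf_dvd_natCard _ hsC
  exact (Nat.Coprime.coprime_dvd_left h1 ((qFacts B).2.2.2.2.2.1.pow_left j)).dvd_of_dvd_mul_right h2

theorem not_normal : ∃ g : G, g ∉ mGrp x := by
  by_contra hc
  push Not at hc
  haveI : Fact (Nat.Prime 2) := ⟨Nat.prime_two⟩
  obtain ⟨S, hS⟩ := (isPGroup_pGrp B).exists_le_sylow
  have e : (S : Subgroup G) = pGrp q x := le_antisymm (le_pGrp B S.isPGroup' (hS (x_mem_pGrp B))) hS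
  exact B.nn S (e ▸ ⟨fun p hp g => conj_pGrp_m B (hc g) hp⟩)

theorem card_mGrp : Nat.card (mGrp x) = (q - 1) * Nat.card C(x) := by
  have h1 := card_eq_of_fibres ((C(x)).subgroupOf (mGrp x))
    (α := {a : G // a ∈ aGrp x ∧ a ≠ 1})
    (fun g => ⟨g.1 * x * g.1⁻¹, (mem_mGrp B).1 g.2, fun e => B.ne (conj_eq_one_iff.1 e)⟩) (fun a => ?_)
    (fun g g' => ?_)
  · have h2 : Nat.card {a : G // a ∈ aGrp x ∧ a ≠ 1} = q - 1 := by
      classical
      haveI := Fintype.ofFinite G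
      rw [Nat.card_eq_fintype_card, Fintype.card_subtype, Finset.filter_and,
        show (Finset.univ.filter fun a => a ≠ (1 : G)) = Finset.univ.erase 1 by ext; simp,
        Finset.inter_erase, Finset.inter_univ, Finset.card_erase_of_mem (by simp),
        ← Fintype.card_subtype, ← Nat.card_eq_fintype_card]
      exact congrArg (· - 1) (card_aGrp B)
    rw [h1, h2, Nat.card_congr (Subgroup.subgroupOfEquivOfLe (cent_le_mGrp B)).toEquiv]
  · obtain ⟨g, hg⟩ := isConj_iff.1 (B.conj x a.1 B.ne B.sq a.2.2 ((mem_aGrp B).1 a.2.1).2)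
    exact ⟨⟨g, (mem_mGrp B).2 (hg ▸ a.2.1)⟩, Subtype.ext hg⟩
  · rw [Subgroup.mem_subgroupOf, Subgroup.mem_centralizer_singleton_iff, Subtype.mk.injEq]
    simp only [Subgroup.coe_mul, Subgroup.coe_inv]
    constructor
    · intro e
      calc (g : G)⁻¹ * g' * x = (g : G)⁻¹ * (g' * x * (g' : G)⁻¹) * g' := by group
        _ = x * ((g : G)⁻¹ * g') := by rw [← e]; group
    · intro e
      calc (g : G) * x * (g : G)⁻¹ = (g : G) * (x * ((g : G)⁻¹ * g')) * (g' : G)⁻¹ := by group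
        _ = g' * x * (g' : G)⁻¹ := by rw [← e]; group

theorem pow_mem_cent {g : G} (hg : g ∈ mGrp x) : g ^ (q - 1) ∈ C(x) := by
  haveI hn : ((C(x)).subgroupOf (mGrp x)).Normal := ⟨fun c hc m => (conj_cent B m.2).2 hc⟩
  have h1 := ((C(x)).subgroupOf (mGrp x)).card_mul_index
  rw [Nat.card_congr (Subgroup.subgroupOfEquivOfLe (cent_le_mGrp B)).toEquiv, card_mGrp B, mul_comm] at h1
  rw [show q - 1 = ((C(x)).subgroupOf (mGrp x)).index from
    (Nat.eq_of_mul_eq_mul_right Nat.card_pos h1).symm]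
  exact Subgroup.mem_subgroupOf.1 (((C(x)).subgroupOf (mGrp x)).pow_index_mem ⟨g, hg⟩)

theorem mem_cent_of_pow {g : G} (hg : g ∈ mGrp x) (h1 : g ^ (q + 1) = 1) : g ∈ C(x) := by
  obtain ⟨m, hm⟩ := exists_pow_eq_self_of_coprime
    (Nat.Coprime.coprime_dvd_right (orderOf_dvd_of_pow_eq_one h1) (qFacts B).2.2.2.2.1)
  rw [← hm]; exact pow_mem (pow_mem_cent B hg) m

theorem two_pow_mem {g : G} (hg : g ∈ mGrp x) {j : ℕ} (h1 : g ^ (2 ^ j) = 1) : g ∈ pGrp q x := by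
  obtain ⟨m, hm⟩ := exists_pow_eq_self_of_coprime
    (Nat.Coprime.coprime_dvd_right (orderOf_dvd_of_pow_eq_one h1) ((qFacts B).2.2.2.2.2.2.pow_left j).symm)
  have hgC : g ∈ C(x) := by rw [← hm]; exact pow_mem (pow_mem_cent B hg) m
  refine (mem_pGrp B).2 ⟨hgC, orderOf_dvd_iff_pow_eq_one.1 ?_⟩
  exact (Nat.Coprime.coprime_dvd_left (orderOf_dvd_of_pow_eq_one h1)
    ((qFacts B).2.2.2.2.2.1.pow_left j)).dvd_of_dvd_mul_right (card_cent B ▸ Subgroup.orderOf_dvd_natCard _ hgC)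

theorem invol_mem_aGrp {s : G} (hs : s ∈ mGrp x) (hs2 : s * s = 1) : s ∈ aGrp x :=
  (mem_aGrp B).2 ⟨pGrp_le B (two_pow_mem B hs (j := 1) (by rwa [pow_one, pow_two])), hs2⟩

theorem semiregular {g p : G} (hg : g ∉ mGrp x) (hp : p ∈ pGrp q x) (hp' : g⁻¹ * p * g ∈ mGrp x) : p = 1 := by
  by_contra hp1
  obtain ⟨m, hm⟩ := exists_prime_orderOf_dvd_card' (G := Subgroup.zpowers p) 2 (hp := ⟨Nat.prime_two⟩) (by
    rw [Nat.card_zpowers]
    obtain ⟨j, hj⟩ := isPGroup_pGrp B ⟨p, hp⟩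
    obtain ⟨i, hi, hij⟩ := (Nat.dvd_prime_pow Nat.prime_two).1
      (orderOf_dvd_of_pow_eq_one (congrArg Subtype.val hj))
    rw [hij]
    refine dvd_pow_self 2 fun h0 => hp1 (orderOf_eq_one_iff.1 ?_)
    rw [hij, h0, pow_zero])
  have hs2 : (m : G) * m = 1 := by
    have h1 := congrArg Subtype.val (pow_orderOf_eq_one m)
    simpa [hm, pow_two] using h1
  have hs1 : (m : G) ≠ 1 := fun e => by
    rw [show m = 1 from Subtype.ext e, orderOf_one] at hm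
    exact absurd hm (by norm_num)
  obtain ⟨i, hi⟩ := Subgroup.mem_zpowers_iff.1 m.2
  have hmP : (m : G) ∈ pGrp q x := hi ▸ zpow_mem hp i
  have hmA : (m : G) ∈ aGrp x := (mem_aGrp B).2 ⟨pGrp_le B hmP, hs2⟩
  have hc : g⁻¹ * (m : G) * g ∈ mGrp x := by
    have h1 := zpow_mem hp' i
    rwa [show (g⁻¹ * p * g) ^ i = g⁻¹ * p ^ i * g from by
      rw [show g⁻¹ * p * g = g⁻¹ * p * g⁻¹⁻¹ by rw [inv_inv], conj_zpow, inv_inv], hi] at h1
  have hy := invol_mem_aGrp B hc (by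
    rw [show g⁻¹ * (m : G) * g * (g⁻¹ * m * g) = g⁻¹ * (m * m) * g by group, hs2, mul_one, inv_mul_cancel])
  have hy1 : g⁻¹ * (m : G) * g ≠ 1 := fun e => hs1 (by
    rw [show (m : G) = g * (g⁻¹ * m * g) * g⁻¹ by group, e, mul_one, mul_inv_cancel])
  have hB := B.at hy1 ((mem_aGrp B).1 hy).2
  refine hg (Subgroup.mem_normalizer_iff.2 fun a => ?_)
  show a ∈ aGrp x ↔ g * a * g⁻¹ ∈ aGrp x
  conv_lhs => rw [← aGrp_eq B hy hy1]
  conv_rhs => rw [← aGrp_eq B hmA hs1]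
  rw [mem_aGrp hB, mem_aGrp (B.at hs1 hs2), conj_mul, conj_eq_one_iff]
  refine and_congr_left fun _ => ?_
  have key := conj_mem_cent g (x := g⁻¹ * (m : G) * g) (c := a)
  rw [show g * (g⁻¹ * (m : G) * g) * g⁻¹ = m by group] at key
  exact key.symm

end Cfsg.Agent.Recog.PguThree
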