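import Cfsg.Agent.Lib.Recog.PguThree.Basic

/-!
Every coset outside `M` contains exactly `q - 1` involutions; the intersection of `M` with a conjugate is abelian,
its elements inverted by a swapping involution form a subgroup of order `q - 1`.
-/

set_option autoImplicit false
set_option linter.unusedSectionVars false
set_option linter.style.haveILetI false

namespace Cfsg.Agent.Recog.PguThree

open MulAction

universe u

variable {G : Type u} [Group G]

local notation "C(" g ")" => Subgroup.centralizer ({g} : Set _)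

/-- The base point of the cosets of `M`. -/
abbrev basePt (x : G) : G ⧸ mGrp x := QuotientGroup.mk (1 : G)

theorem smul_basePt (x g : G) : g • basePt x = QuotientGroup.mk g :=
  congrArg QuotientGroup.mk (mul_one g)

theorem fix_basePt {x g : G} : g • basePt x = basePt x ↔ g ∈ mGrp x := by
  rw [smul_basePt, basePt, QuotientGroup.eq, mul_one, inv_mem_iff]

theorem fix_smul_basePt {x g d : G} : d • g • basePt x = g • basePt x ↔ g⁻¹ * d * g ∈ mGrp x := by
  rw [← fix_basePt, mul_smul, mul_smul, inv_smul_eq_iff]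

theorem inv_of_sq {t : G} (ht : t * t = 1) : t⁻¹ = t := inv_eq_of_mul_eq_one_right ht

theorem tconj_mul {t : G} (ht2 : t * t = 1) (u v : G) : t * (u * v) * t = (t * u * t) * (t * v * t) := by
  rw [show (t * u * t) * (t * v * t) = t * u * (t * t) * v * t by group, ht2, mul_one]; group

theorem tconj_inv {t : G} (ht2 : t * t = 1) (u : G) : t * u⁻¹ * t = (t * u * t)⁻¹ := by
  rw [mul_inv_rev, mul_inv_rev, inv_of_sq ht2, mul_assoc]

theorem tconj_pow {t : G} (ht2 : t * t = 1) (u : G) (k : ℕ) : t * u ^ k * t = (t * u * t) ^ k := by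
  induction k with
  | zero => rw [pow_zero, pow_zero, mul_one, ht2]
  | succ k ih => rw [pow_succ, pow_succ, tconj_mul ht2, ih]

/-- An element of odd order inverting an element of odd order. -/
theorem eq_one_of_inverts {g c : G} {N : ℕ} (hN : Nat.Coprime 2 N) (hg : g ^ N = 1) (hc : c ^ N = 1)
    (h : g * c * g⁻¹ = c⁻¹) : c = 1 := by
  have h2 : Commute (g ^ 2) c := by
    show g ^ 2 * c = c * g ^ 2
    rw [pow_two]
    calc g * g * c = g * (g * c * g⁻¹) * g⁻¹ * (g * g) := by group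
      _ = g * c⁻¹ * g⁻¹ * (g * g) := by rw [h]
      _ = (g * c * g⁻¹)⁻¹ * (g * g) := by group
      _ = c * (g * g) := by rw [h, inv_inv]
  obtain ⟨m, hm⟩ := exists_pow_eq_self_of_coprime
    (Nat.Coprime.coprime_dvd_right (orderOf_dvd_of_pow_eq_one hg) hN)
  have h3 : g * c = c * g := by
    conv_lhs => rw [← hm]
    conv_rhs => rw [← hm]
    exact (h2.pow_left m).eq
  rw [h3, mul_inv_cancel_right] at h
  exact eq_one_of_pow_coprime hN (by rw [pow_two]; exact mul_eq_one_iff_eq_inv.2 h) hc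

variable {q : ℕ} {x : G} (B : Base G q x) [Finite G]
include B

theorem card_aGrp_ne : Nat.card {a : G // a ∈ aGrp x ∧ a ≠ 1} = q - 1 := by
  classical
  haveI := Fintype.ofFinite G
  rw [Nat.card_eq_fintype_card, Fintype.card_subtype, Finset.filter_and,
    show (Finset.univ.filter fun a => a ≠ (1 : G)) = Finset.univ.erase 1 by ext; simp,
    Finset.inter_erase, Finset.inter_univ, Finset.card_erase_of_mem (by simp),
    ← Fintype.card_subtype, ← Nat.card_eq_fintype_card]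
  exact congrArg (· - 1) (card_aGrp B)

theorem comm_mod_p {c d : G} (hc : c ∈ C(x)) (hd : d ∈ C(x)) : c * d * c⁻¹ * d⁻¹ ∈ pGrp q x := by
  obtain ⟨g, hg, hgen⟩ := exists_gen B
  have key : ∀ u ∈ C(x), ∀ v ∈ C(x), ∀ i j : ℕ, (g ^ i)⁻¹ * u ∈ pGrp q x → (g ^ j)⁻¹ * v ∈ pGrp q x →
      (g ^ (i + j))⁻¹ * (u * v) ∈ pGrp q x := fun u _ v _ i j hu hv => by
    rw [show (g ^ (i + j))⁻¹ * (u * v) =
      ((g ^ j)⁻¹ * ((g ^ i)⁻¹ * u) * ((g ^ j)⁻¹)⁻¹) * ((g ^ j)⁻¹ * v) by rw [pow_add]; group]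
    exact mul_mem (conj_pGrp B (inv_mem (pow_mem hg j)) hu) hv
  obtain ⟨i, hi⟩ := hgen c hc
  obtain ⟨j, hj⟩ := hgen d hd
  have h1 := key c hc d hd i j hi hj
  have h2 := key d hd c hc j i hj hi
  rw [add_comm] at h2
  rw [show c * d * c⁻¹ * d⁻¹ = g ^ (i + j) * (((g ^ (i + j))⁻¹ * (c * d)) * ((g ^ (i + j))⁻¹ * (d * c))⁻¹) *
    (g ^ (i + j))⁻¹ by group]
  exact conj_pGrp B (pow_mem hg _) (mul_mem h1 (inv_mem h2))

theorem cent_no_invert {d t : G} (hd : d ∈ C(x)) (hd1 : d ^ (q + 1) = 1) (ht2 : t * t = 1)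
    (h : t * d * t = d⁻¹) : d = 1 := by
  classical
  haveI : Fact (Nat.Prime 2) := ⟨Nat.prime_two⟩
  let X : Subgroup G :=
    { carrier := {g | g * d * g⁻¹ = d ∨ g * d * g⁻¹ = d⁻¹}
      one_mem' := Or.inl (by group)
      mul_mem' := by
        rintro g g' (e | e) (e' | e')
        · exact Or.inl (by rw [show g * g' * d * (g * g')⁻¹ = g * (g' * d * g'⁻¹) * g⁻¹ by group, e', e])
        · exact Or.inr (by
            rw [show g * g' * d * (g * g')⁻¹ = g * (g' * d * g'⁻¹) * g⁻¹ by group, e',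
              show g * d⁻¹ * g⁻¹ = (g * d * g⁻¹)⁻¹ by group, e])
        · exact Or.inr (by rw [show g * g' * d * (g * g')⁻¹ = g * (g' * d * g'⁻¹) * g⁻¹ by group, e', e])
        · exact Or.inl (by
            rw [show g * g' * d * (g * g')⁻¹ = g * (g' * d * g'⁻¹) * g⁻¹ by group, e',
              show g * d⁻¹ * g⁻¹ = (g * d * g⁻¹)⁻¹ by group, e, inv_inv])
      inv_mem' := by
        rintro g (e | e)
        · refine Or.inl ?_
          conv_lhs => rw [← e]
          group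
        · refine Or.inr ?_
          conv_lhs => rw [show d = (g * d * g⁻¹)⁻¹ by rw [e, inv_inv]]
          group }
  have hAX : aGrp x ≤ X := fun a ha => Or.inl (by
    rw [show a * d = d * a from (aGrp_central B ha hd).symm, mul_inv_cancel_right])
  have htX : t ∈ X := Or.inr (by rw [inv_of_sq ht2]; exact h)
  have hA2 : IsPGroup 2 ((aGrp x).subgroupOf X) :=
    ((isPGroup_pGrp B).to_le (aGrp_le B)).of_equiv (Subgroup.subgroupOfEquivOfLe hAX).symm
  obtain ⟨T, hT⟩ := hA2.exists_le_sylow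
  have ht' : IsPGroup 2 (Subgroup.zpowers (⟨t, htX⟩ : X)) := by
    rw [IsPGroup]
    rintro ⟨g, hg⟩
    obtain ⟨i, rfl⟩ := Subgroup.mem_zpowers_iff.1 hg
    refine ⟨1, Subtype.ext (Subtype.ext ?_)⟩
    show (((⟨t, htX⟩ : X) ^ i) ^ (2 ^ 1) : X).1 = 1
    rw [pow_one, SubgroupClass.coe_pow, SubgroupClass.coe_zpow, ← zpow_natCast, ← zpow_mul, mul_comm, zpow_mul,
      zpow_natCast, pow_two]
    show (t * t) ^ i = 1
    rw [ht2, one_zpow]
  obtain ⟨S, hS⟩ := ht'.exists_le_sylow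
  obtain ⟨u, hu⟩ := MulAction.exists_smul_eq X S T
  set s : G := (u : G) * t * (u : G)⁻¹ with hs
  have hsT : u * ⟨t, htX⟩ * u⁻¹ ∈ (T : Subgroup X) := by
    rw [← hu]
    exact ⟨⟨t, htX⟩, hS (Subgroup.mem_zpowers _), rfl⟩
  have hsP : s ∈ pGrp q x := by
    refine le_pGrp B (S := (T : Subgroup X).map X.subtype) (T.isPGroup'.map _)
      ⟨⟨x, hAX (x_mem_aGrp B)⟩, hT (x_mem_aGrp B), rfl⟩ ⟨_, hsT, rfl⟩
  have hsd : s * d * s⁻¹ = d⁻¹ := by
    have e1 : s * ((u : G) * d * (u : G)⁻¹) * s⁻¹ = ((u : G) * d * (u : G)⁻¹)⁻¹ := by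
      rw [hs, show (u : G) * t * (u : G)⁻¹ * ((u : G) * d * (u : G)⁻¹) * ((u : G) * t * (u : G)⁻¹)⁻¹ =
        (u : G) * (t * d * t⁻¹) * (u : G)⁻¹ by group, inv_of_sq ht2, h]
      group
    rcases u.2 with e | e
    · rwa [e] at e1
    · rw [e, inv_inv] at e1
      rw [show s * d * s⁻¹ = (s * d⁻¹ * s⁻¹)⁻¹ by group, e1]
  have h2 : d⁻¹ * d⁻¹ ∈ pGrp q x := by
    rw [show d⁻¹ * d⁻¹ = s * (d * s⁻¹ * d⁻¹) by rw [← mul_assoc s, ← mul_assoc s, hsd]]
    exact mul_mem hsP (conj_pGrp B hd (inv_mem hsP))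
  obtain ⟨-, -, hco, -, -, h2q, -⟩ := qFacts B
  refine eq_one_of_pow_coprime (Nat.Coprime.mul_left h2q hco) ?_ hd1
  have h3 := ((mem_pGrp B).1 h2).2
  rw [← mul_inv_rev, inv_pow, inv_eq_one, ← pow_two, ← pow_mul] at h3
  exact h3

section Swap

variable {t : G} (ht : t ∉ mGrp x) (ht2 : t * t = 1)
include ht ht2

theorem meet_p {p : G} (hp : p ∈ pGrp q x) (hp' : t * p * t ∈ mGrp x) : p = 1 :=
  semiregular B ht hp (by rwa [inv_of_sq ht2])

theorem meet_pow {d : G} (hd : d ∈ mGrp x) (hd' : t * d * t ∈ mGrp x) : d ^ ((q - 1) * (q + 1)) = 1 := by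
  refine meet_p B ht ht2 (by rw [pow_mul]; exact pow_mem_pGrp B (pow_mem_cent B hd)) ?_
  rw [tconj_pow ht2]
  exact pow_mem hd' _

theorem meet_cent_pow {d : G} (hd : d ∈ C(x)) (hd' : t * d * t ∈ mGrp x) : d ^ (q + 1) = 1 := by
  refine meet_p B ht ht2 (pow_mem_pGrp B hd) ?_
  rw [tconj_pow ht2]
  exact pow_mem hd' _

theorem swap_mem_cent {d : G} (hd : d ∈ C(x)) (hd' : t * d * t ∈ mGrp x) : t * d * t ∈ C(x) := by
  refine mem_cent_of_pow B hd' ?_
  rw [← tconj_pow ht2, meet_cent_pow B ht ht2 hd hd', mul_one, ht2]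

theorem cent_fix {d : G} (hd : d ∈ C(x)) (hd' : t * d * t ∈ mGrp x) : t * d * t = d := by
  have he : d⁻¹ * (t * d * t) ∈ C(x) := mul_mem (inv_mem hd) (swap_mem_cent B ht ht2 hd hd')
  have h1 : t * (d⁻¹ * (t * d * t)) * t = (d⁻¹ * (t * d * t))⁻¹ := by
    rw [show t * (d⁻¹ * (t * d * t)) * t = t * d⁻¹ * t * d * (t * t) by group, ht2, mul_one, mul_inv_rev,
      mul_inv_rev, mul_inv_rev, inv_of_sq ht2, inv_inv, ← mul_assoc]
  have h2 : t * (d⁻¹ * (t * d * t)) * t ∈ mGrp x := by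
    rw [h1]; exact inv_mem (cent_le_mGrp B he)
  exact (inv_mul_eq_one.1 (cent_no_invert B he (meet_cent_pow B ht ht2 he h2) ht2 h1)).symm

theorem inverted_inj {j j' : G} (hj : j ∈ mGrp x) (hj' : j' ∈ mGrp x) (e : t * j * t = j⁻¹)
    (e' : t * j' * t = j'⁻¹) (h : j⁻¹ * j' ∈ C(x)) : j = j' := by
  have ej : t * j⁻¹ * t = j := by
    rw [← e, show t * (t * j * t) * t = t * t * j * (t * t) by group, ht2, one_mul, mul_one]
  have h1 : t * (j⁻¹ * j') * t = j * j'⁻¹ := by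
    rw [show t * (j⁻¹ * j') * t = t * j⁻¹ * (t * t) * j' * t by rw [ht2]; group,
      show t * j⁻¹ * (t * t) * j' * t = (t * j⁻¹ * t) * (t * j' * t) by group, ej, e']
  have hm : t * (j⁻¹ * j') * t ∈ mGrp x := h1 ▸ mul_mem hj (inv_mem hj')
  have h2 := cent_fix B ht ht2 h hm
  rw [h1] at h2
  obtain ⟨-, -, -, -, -, ha, hb⟩ := qFacts B
  have h3 : j⁻¹ * j' = 1 := by
    refine eq_one_of_inverts (Nat.Coprime.mul_right hb ha) (g := j⁻¹) ?_ ?_ ?_
    · rw [inv_pow, meet_pow B ht ht2 hj (e ▸ inv_mem hj), inv_one]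
    · exact meet_pow B ht ht2 (cent_le_mGrp B h) hm
    · conv_lhs => rw [← h2]
      group
  exact inv_mul_eq_one.1 h3

end Swap

theorem card_invol : Nat.card {s : G // s ≠ 1 ∧ s * s = 1} = (mGrp x).index * (q - 1) := by
  have h1 := card_eq_of_fibres C(x) (α := {s : G // s ≠ 1 ∧ s * s = 1})
    (fun g => ⟨g * x * g⁻¹, fun e => B.ne (conj_eq_one_iff.1 e), by rw [conj_mul, B.sq, mul_one, mul_inv_cancel]⟩)
    (fun s => (isConj_iff.1 (B.conj x s.1 B.ne B.sq s.2.1 s.2.2)).imp fun g hg => Subtype.ext hg)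
    (fun g g' => by
      rw [Subgroup.mem_centralizer_singleton_iff, Subtype.mk.injEq]
      constructor
      · intro e
        calc g⁻¹ * g' * x = g⁻¹ * (g' * x * g'⁻¹) * g' := by group
          _ = x * (g⁻¹ * g') := by rw [← e]; group
      · intro e
        calc g * x * g⁻¹ = g * (x * (g⁻¹ * g')) * g'⁻¹ := by group
          _ = g' * x * g'⁻¹ := by rw [← e]; group)
  rw [← (mGrp x).index_mul_card, card_mGrp B, ← mul_assoc] at h1
  exact (Nat.eq_of_mul_eq_mul_right Nat.card_pos h1).symm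

/-- The involutions mapping the base point to a given point, and the inverted elements they give. -/
theorem swap_diff {b : G ⧸ mGrp x} (hb : b ≠ basePt x) {t s : G} (ht2 : t * t = 1) (hs2 : s * s = 1)
    (htb : t • basePt x = b) (hsb : s • basePt x = b) :
    t ∉ mGrp x ∧ s * t ∈ mGrp x ∧ t * (s * t) * t = (s * t)⁻¹ := by
  refine ⟨fun h => hb (htb ▸ fix_basePt.2 h), fix_basePt.1 ?_, ?_⟩
  · rw [mul_smul, htb, ← hsb, ← mul_smul, hs2, one_smul]
  · rw [show t * (s * t) * t = t * s * (t * t) by group, ht2, mul_one, mul_inv_rev, inv_of_sq ht2, inv_of_sq hs2]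

theorem fibre_card_le {t : G} (ht : t ∉ mGrp x) (ht2 : t * t = 1) :
    Function.Injective fun s : {s : G // s * s = 1 ∧ s • basePt x = t • basePt x} =>
      (⟨s.1 * t * x * (s.1 * t)⁻¹, (mem_mGrp B).1 (swap_diff B (fun h => ht (fix_basePt.1 h)) ht2 s.2.1 rfl s.2.2).2.1,
        fun e => B.ne (conj_eq_one_iff.1 e)⟩ : {a : G // a ∈ aGrp x ∧ a ≠ 1}) := by
  rintro ⟨s, hs, hsc⟩ ⟨s', hs', hsc'⟩ e
  obtain ⟨-, hj, hji⟩ := swap_diff B (fun h => ht (fix_basePt.1 h)) ht2 hs rfl hsc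
  obtain ⟨-, hj', hji'⟩ := swap_diff B (fun h => ht (fix_basePt.1 h)) ht2 hs' rfl hsc'
  refine Subtype.ext (mul_right_cancel (inverted_inj B ht ht2 hj hj' hji hji' ?_))
  have e1 : s * t * x * (s * t)⁻¹ = s' * t * x * (s' * t)⁻¹ := congrArg Subtype.val e
  rw [Subgroup.mem_centralizer_singleton_iff]
  calc (s * t)⁻¹ * (s' * t) * x = (s * t)⁻¹ * (s' * t * x * (s' * t)⁻¹) * (s' * t) := by group
    _ = x * ((s * t)⁻¹ * (s' * t)) := by rw [← e1]; group

/-- Every point off the base point is reached by exactly `q - 1` involutions. -/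
theorem fibre_card {b : G ⧸ mGrp x} (hb : b ≠ basePt x) :
    q - 1 ≤ Nat.card {s : G // s * s = 1 ∧ s • basePt x = b} := by
  classical
  haveI := Fintype.ofFinite G
  haveI := Fintype.ofFinite (G ⧸ mGrp x)
  let I : Finset G := Finset.univ.filter fun s => s ≠ 1 ∧ s * s = 1 ∧ s ∉ mGrp x
  let Ω' : Finset (G ⧸ mGrp x) := Finset.univ.erase (basePt x)
  let A : Finset G := Finset.univ.filter fun a => a ∈ aGrp x ∧ a ≠ 1
  have hA : A.card = q - 1 := by
    rw [← card_aGrp_ne B, Nat.card_eq_fintype_card, Fintype.card_subtype]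
  have hmaps : ∀ s ∈ I, s • basePt x ∈ Ω' := fun s hs =>
    Finset.mem_erase.2 ⟨fun h => (Finset.mem_filter.1 hs).2.2.2 (fix_basePt.1 h), Finset.mem_univ _⟩
  have hI : I.card = Ω'.card * (q - 1) := by
    have h1 := card_invol B
    have e : (Finset.univ.filter fun s : G => s ≠ 1 ∧ s * s = 1) = I ∪ A := by
      ext s
      simp only [I, A, Finset.mem_union, Finset.mem_filter, Finset.mem_univ, true_and]
      constructor
      · intro hs
        by_cases hm : s ∈ mGrp x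
        · exact Or.inr ⟨invol_mem_aGrp B hm hs.2, hs.1⟩
        · exact Or.inl ⟨hs.1, hs.2, hm⟩
      · rintro (⟨a, b, -⟩ | ⟨a, b⟩)
        · exact ⟨a, b⟩
        · exact ⟨b, ((mem_aGrp B).1 a).2⟩
    have hdis : Disjoint I A := Finset.disjoint_filter.2 fun s _ hs ha =>
      hs.2.2 (cent_le_mGrp B ((mem_aGrp B).1 ha.1).1)
    rw [Nat.card_eq_fintype_card, Fintype.card_subtype, e, Finset.card_union_of_disjoint hdis, hA,
      Subgroup.index_eq_card, Nat.card_eq_fintype_card] at h1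
    rw [Finset.card_erase_of_mem (Finset.mem_univ _), Finset.card_univ, Nat.sub_mul, one_mul]
    omega
  have hcard : ∀ c ∈ Ω', (I.filter fun s => s • basePt x = c).card =
      Nat.card {s : G // s * s = 1 ∧ s • basePt x = c} := fun c hc => by
    rw [Nat.card_eq_fintype_card, Fintype.card_subtype, Finset.filter_filter]
    refine congrArg Finset.card (Finset.filter_congr fun s _ => ⟨fun h => ⟨h.1.2.1, h.2⟩, fun h => ⟨⟨?_, h.1, ?_⟩, h.2⟩⟩)
    · rintro rfl
      exact Finset.ne_of_mem_erase hc (h.2.symm.trans (one_smul G _))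
    · exact fun hm => Finset.ne_of_mem_erase hc (h.2.symm.trans (fix_basePt.2 hm))
  have hle : ∀ c ∈ Ω', (I.filter fun s => s • basePt x = c).card ≤ q - 1 := fun c hc => by
    rcases (I.filter fun s => s • basePt x = c).eq_empty_or_nonempty with h | ⟨t, ht⟩
    · rw [h, Finset.card_empty]; exact Nat.zero_le _
    · obtain ⟨htI, rfl⟩ := Finset.mem_filter.1 ht
      rw [hcard _ hc, ← card_aGrp_ne B]
      exact Nat.card_le_card_of_injective _
        (fibre_card_le B (Finset.mem_filter.1 htI).2.2.2 (Finset.mem_filter.1 htI).2.2.1)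
  have hbΩ : b ∈ Ω' := Finset.mem_erase.2 ⟨hb, Finset.mem_univ _⟩
  have hsum := Finset.card_eq_sum_card_fiberwise hmaps
  rw [← hcard b hbΩ]
  by_contra hlt
  push Not at hlt
  have := Finset.sum_lt_sum hle ⟨b, hbΩ, hlt⟩
  rw [← hsum, hI, Finset.sum_const, smul_eq_mul] at this
  exact lt_irrefl _ this

theorem exists_swap {b : G ⧸ mGrp x} (hb : b ≠ basePt x) :
    ∃ t : G, t ∉ mGrp x ∧ t * t = 1 ∧ t • basePt x = b := by
  have h1 := fibre_card B hb
  have h4 := (qFacts B).1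
  obtain ⟨⟨s, hs, hsb⟩⟩ := (Nat.card_pos_iff.1 (show 0 < Nat.card {s : G // s * s = 1 ∧ s • basePt x = b} by omega)).1
  exact ⟨s, fun h => hb (hsb ▸ fix_basePt.2 h), hs, hsb⟩

/-- Each class of `M` modulo the centraliser contains an element inverted by `t`. -/
theorem exists_inverted {t : G} (ht : t ∉ mGrp x) (ht2 : t * t = 1) {g : G} (hg : g ∈ mGrp x) :
    ∃ j ∈ mGrp x, t * j * t = j⁻¹ ∧ j⁻¹ * g ∈ C(x) := by
  have hb : t • basePt x ≠ basePt x := fun h => ht (fix_basePt.1 h)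
  have hbij := (fibre_card_le B ht ht2).bijective_of_nat_card_le ((card_aGrp_ne B).trans_le (fibre_card B hb))
  obtain ⟨⟨s, hs, hsb⟩, e⟩ := hbij.2 ⟨g * x * g⁻¹, (mem_mGrp B).1 hg, fun e => B.ne (conj_eq_one_iff.1 e)⟩
  obtain ⟨-, hj, hji⟩ := swap_diff B hb ht2 hs rfl hsb
  have e1 : s * t * x * (s * t)⁻¹ = g * x * g⁻¹ := congrArg Subtype.val e
  refine ⟨s * t, hj, hji, ?_⟩
  rw [Subgroup.mem_centralizer_singleton_iff]
  calc (s * t)⁻¹ * g * x = (s * t)⁻¹ * (g * x * g⁻¹) * g := by group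
    _ = x * ((s * t)⁻¹ * g) := by rw [← e1]; group

theorem exists_outside : ∃ t : G, t ∉ mGrp x ∧ t * t = 1 := by
  obtain ⟨g, hg⟩ := not_normal B
  obtain ⟨t, h1, h2, -⟩ := exists_swap B (b := g • basePt x) fun h => hg (fix_basePt.1 h)
  exact ⟨t, h1, h2⟩

/-- `M` is abelian modulo the centraliser of `x`. -/
theorem comm_mod_c {g h : G} (hg : g ∈ mGrp x) (hh : h ∈ mGrp x) : g * h * g⁻¹ * h⁻¹ ∈ C(x) := by
  obtain ⟨t, ht, ht2⟩ := exists_outside B
  obtain ⟨j, hj, ej, hjg⟩ := exists_inverted B ht ht2 hg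
  obtain ⟨j', hj', ej', hjh⟩ := exists_inverted B ht ht2 hh
  obtain ⟨i, hi, ei, hij⟩ := exists_inverted B ht ht2 (mul_mem hj hj')
  -- the class of `j j'` is inverted
  have e1 : t * (i⁻¹ * (j * j')) * t = i * j⁻¹ * j'⁻¹ := by
    have ei' : t * i⁻¹ * t = i := by
      rw [← ei, show t * (t * i * t) * t = t * t * i * (t * t) by group, ht2, one_mul, mul_one]
    rw [show t * (i⁻¹ * (j * j')) * t = t * i⁻¹ * (t * t) * j * (t * t) * j' * t by rw [ht2]; group,
      show t * i⁻¹ * (t * t) * j * (t * t) * j' * t = (t * i⁻¹ * t) * (t * j * t) * (t * j' * t) by group,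
      ei', ej, ej']
  have hfix := cent_fix B ht ht2 hij (e1 ▸ mul_mem (mul_mem hi (inv_mem hj)) (inv_mem hj'))
  rw [e1] at hfix
  have h1 : j * j' * j⁻¹ * j'⁻¹ ∈ C(x) := by
    rw [show j * j' * j⁻¹ * j'⁻¹ = i * (i⁻¹ * (j * j')) * i⁻¹ * (i * j⁻¹ * j'⁻¹) by group, hfix]
    exact mul_mem ((conj_cent B hi).2 hij) hij
  rw [show g * h * g⁻¹ * h⁻¹ = (j * (j⁻¹ * g) * j⁻¹) *
    ((j * j') * ((j'⁻¹ * h) * (j⁻¹ * g)⁻¹) * (j * j')⁻¹) *
    ((j * j' * j⁻¹) * (j'⁻¹ * h)⁻¹ * (j * j' * j⁻¹)⁻¹) * (j * j' * j⁻¹ * j'⁻¹) by group]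
  exact mul_mem (mul_mem (mul_mem ((conj_cent B hj).2 hjg)
    ((conj_cent B (mul_mem hj hj')).2 (mul_mem hjh (inv_mem hjg))))
    ((conj_cent B (mul_mem (mul_mem hj hj') (inv_mem hj))).2 (inv_mem hjh))) h1

section Swap

variable {t : G} (ht : t ∉ mGrp x) (ht2 : t * t = 1)
include ht ht2

theorem cent_central {c d : G} (hc : c ∈ C(x)) (hc' : t * c * t ∈ mGrp x) (hd : d ∈ mGrp x)
    (hd' : t * d * t ∈ mGrp x) : d * c = c * d := by
  have tmul := tconj_mul ht2
  have tinv := tconj_inv ht2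
  have habel : ∀ e ∈ C(x), t * e * t ∈ mGrp x → e * c = c * e := fun e he he' => by
    have hcp := comm_mod_p B he hc
    have h1 := meet_p B ht ht2 hcp (by
      rw [tmul, tmul, tmul, tinv, tinv]
      exact mul_mem (mul_mem (mul_mem he' hc') (inv_mem he')) (inv_mem hc'))
    exact mul_inv_eq_iff_eq_mul.1 (mul_inv_eq_one.1 h1)
  obtain ⟨j, hj, ej, hjd⟩ := exists_inverted B ht ht2 hd
  have hj' : t * j * t ∈ mGrp x := ej ▸ inv_mem hj
  have h3 : t * (j * c * j⁻¹) * t = j⁻¹ * c * j := by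
    rw [tmul, tmul, tinv, ej, inv_inv, cent_fix B ht ht2 hc hc']
  have h4 := cent_fix B ht ht2 ((conj_cent B hj).2 hc) (h3 ▸ mul_mem (mul_mem (inv_mem hj) (cent_le_mGrp B hc)) hj)
  rw [h3] at h4
  have h5 : Commute (j ^ 2) c := by
    show j ^ 2 * c = c * j ^ 2
    rw [pow_two]
    calc j * j * c = j * (j * c * j⁻¹) * j := by group
      _ = j * (j⁻¹ * c * j) * j := by rw [h4]
      _ = c * (j * j) := by group
  have hN : Nat.Coprime 2 ((q - 1) * (q + 1)) := Nat.Coprime.mul_right (qFacts B).2.2.2.2.2.2 (qFacts B).2.2.2.2.2.1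
  obtain ⟨m, hm⟩ := exists_pow_eq_self_of_coprime
    (Nat.Coprime.coprime_dvd_right (orderOf_dvd_of_pow_eq_one (meet_pow B ht ht2 hj hj')) hN)
  have h6 : j * c = c * j := by
    conv_lhs => rw [← hm]
    conv_rhs => rw [← hm]
    exact (h5.pow_left m).eq
  have he' : t * (j⁻¹ * d) * t ∈ mGrp x := by
    rw [tmul, tinv]; exact mul_mem (inv_mem hj') hd'
  have h7 := habel _ hjd he'
  calc d * c = j * ((j⁻¹ * d) * c) := by group
    _ = j * c * (j⁻¹ * d) := by rw [h7]; group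
    _ = c * d := by rw [h6]; group

theorem meet_comm {u v : G} (hu : u ∈ mGrp x) (hu' : t * u * t ∈ mGrp x) (hv : v ∈ mGrp x)
    (hv' : t * v * t ∈ mGrp x) : u * v = v * u := by
  have tmul := tconj_mul ht2
  have tinv := tconj_inv ht2
  set w := u * v * u⁻¹ * v⁻¹ with hw
  have hwC : w ∈ C(x) := comm_mod_c B hu hv
  have hw' : t * w * t ∈ mGrp x := by
    rw [hw, tmul, tmul, tmul, tinv, tinv]
    exact mul_mem (mul_mem (mul_mem hu' hv') (inv_mem hu')) (inv_mem hv')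
  have hwu : u * w = w * u := cent_central B ht ht2 hwC hw' hu hu'
  have hk : ∀ k : ℕ, u ^ k * v = w ^ k * v * u ^ k := fun k => by
    induction k with
    | zero => simp
    | succ k ih =>
      have hwk : u * w ^ k = w ^ k * u := (Commute.pow_right hwu k).eq
      calc u ^ (k + 1) * v = u * (u ^ k * v) := by rw [pow_succ' u k]; group
        _ = u * w ^ k * v * u ^ k := by rw [ih]; group
        _ = w ^ k * (u * v * u⁻¹ * v⁻¹) * v * (u * u ^ k) := by rw [hwk]; group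
        _ = w ^ (k + 1) * v * u ^ (k + 1) := by rw [← hw, pow_succ w k, pow_succ' u k]
  have huq : t * u ^ (q - 1) * t ∈ mGrp x := by
    rw [tconj_pow ht2]
    exact pow_mem hu' _
  have h1 := hk (q - 1)
  rw [← cent_central B ht ht2 (pow_mem_cent B hu) huq hv hv', mul_assoc, eq_comm, mul_eq_right] at h1
  have hw1 : w = 1 := eq_one_of_pow_coprime (qFacts B).2.2.2.2.1 h1 (meet_cent_pow B ht ht2 hwC hw')
  exact mul_inv_eq_iff_eq_mul.1 (mul_inv_eq_one.1 (hw ▸ hw1))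

/-- The elements of order dividing `q - 1` fixing `a` and `t • a` are the inverted ones. -/
theorem inverted_iff {d : G} (hd : d ∈ mGrp x) (hd' : t * d * t ∈ mGrp x) :
    t * d * t = d⁻¹ ↔ d ^ (q - 1) = 1 := by
  have tmul := tconj_mul ht2
  have tpow := tconj_pow ht2
  have key : ∀ j, j ∈ mGrp x → t * j * t = j⁻¹ → j ^ (q - 1) = 1 := fun j hj ej => by
    have hm : t * j ^ (q - 1) * t ∈ mGrp x := by
      rw [tpow, ej]; exact pow_mem (inv_mem hj) _
    have h1 := cent_fix B ht ht2 (pow_mem_cent B hj) hm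
    rw [tpow, ej, inv_pow, inv_eq_iff_mul_eq_one, ← pow_two] at h1
    exact eq_one_of_pow_coprime (qFacts B).2.2.2.2.2.1 h1 (meet_cent_pow B ht ht2 (pow_mem_cent B hj) hm)
  refine ⟨key d hd, fun h1 => ?_⟩
  obtain ⟨j, hj, ej, hjd⟩ := exists_inverted B ht ht2 hd
  have hjd' : t * (j⁻¹ * d) * t ∈ mGrp x := by
    rw [tmul, tconj_inv ht2, ej, inv_inv]
    exact mul_mem hj hd'
  have hc : Commute j⁻¹ d := (show Commute j d from meet_comm B ht ht2 hj (ej ▸ inv_mem hj) hd hd').inv_left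
  have h2 : (j⁻¹ * d) ^ (q - 1) = 1 := by rw [hc.mul_pow, inv_pow, key j hj ej, h1, inv_one, one_mul]
  have h3 := eq_one_of_pow_coprime (qFacts B).2.2.2.2.1 h2 (meet_cent_pow B ht ht2 hjd hjd')
  rw [inv_mul_eq_one] at h3
  exact h3 ▸ ej

end Swap

end Cfsg.Agent.Recog.PguThree
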