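import Cfsg.Agent.Lib.Transfer.RankOne.Main

/-!
A simple rank-one group with `|Q| = |Z₀|³` is `PSU₃(q)`, `q = |Z₀|`.
-/

set_option autoImplicit false
set_option linter.unusedSectionVars false
set_option linter.style.haveILetI false

namespace Cfsg.Agent.Recog.PguThree

open MulAction Cfsg.Agent.Transfer.RankOne

universe u v

variable {G : Type u} {Ω : Type v} [Group G] [MulAction G Ω] [Finite G] [FaithfulSMul G Ω] [IsSimpleGroup G]
  {a : Ω} {t : G} {Q : Subgroup G}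

theorem psu_of_cube (H : Hyp G Ω a t Q) {m : ℕ} (hm : Nat.card (zGrp G a) = m) (h3 : Nat.card Q = m ^ 3) :
    ∃ (K : Type) (_ : Field K) (_ : Fintype K), Fintype.card K = m ^ 2 ∧ Nonempty (G ≃* Cfsg.PSU 3 K m) := by
  classical
  subst hm
  have hq4 : 2 ≤ Nat.card (zGrp G a) := le_trans (by norm_num) (four_le_q H)
  obtain ⟨hQ2, hQ | ⟨hna, hQ | ⟨hsz, hW⟩⟩⟩ := struct_all H
  · rw [h3] at hQ
    exact absurd hQ (by
      intro e
      have := Nat.pow_right_injective hq4 (a₁ := 3) (a₂ := 1) (by simpa using e)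
      omega)
  · rw [h3] at hQ
    exact absurd (Nat.pow_right_injective hq4 hQ) (by norm_num)
  · obtain ⟨n, F, iF, iF', hn, hF, hchar, ⟨E⟩⟩ := exists_env H
    haveI := hchar
    obtain ⟨r, hr, hrd⟩ := Nat.exists_prime_and_dvd
      (fun h => hW (Subgroup.card_eq_one.1 h) : Nat.card (wGrp a t) ≠ 1)
    haveI := Fact.mk hr
    obtain ⟨⟨w, hw⟩, hord⟩ := exists_prime_orderOf_dvd_card' r hrd
    rw [Subgroup.orderOf_mk] at hord
    have hw1 : w ≠ 1 := fun h => by
      rw [h, orderOf_one] at hord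
      exact hr.one_lt.ne hord
    have hrz : E.r ∈ zGrp G a := r_mem_cube E hQ2 hna hsz hw hw1
    obtain ⟨K, iK, iK', hK2, ⟨X⟩⟩ := exists_qext F
    haveI := hK2
    haveI : Fintype K := Fintype.ofFinite K
    obtain ⟨D⟩ := exists_ddata E hQ2 hna hsz hrz X hw hr hord
    obtain ⟨Φ⟩ := exists_qform E X hQ2 hna hsz hrz D.hw D.hr D.hr2 D.hord D.hdvd
    obtain ⟨M⟩ := exists_herm D hQ2 hna Φ
    obtain ⟨e⟩ := psu_of_herm hrz M (E.card_F ▸ four_le_q H)
    exact ⟨K, iK, inferInstance, by rw [← Nat.card_eq_fintype_card, X.card, E.card_F],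
      ⟨E.card_F ▸ e⟩⟩

end Cfsg.Agent.Recog.PguThree
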