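import Mathlib

/-!
The shape of the centraliser of an involution in `PGU₃(q)`, `q` a power of two.
-/

set_option autoImplicit false

namespace Cfsg.Agent.Recog.PguThree

/-- A group of order `q³(q + 1)` with a normal subgroup `P` of order `q³` and cyclic quotient, a central subgroup
`A` of order `q` consisting of the solutions of `x² = 1`, and no non-trivial element of order dividing `q + 1`
commuting with an element of `P` outside `A`. -/
def IsCent (q : ℕ) (C : Type*) [Group C] : Prop :=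
  ∃ P A : Subgroup C, P.Normal ∧ Nat.card P = q ^ 3 ∧ Nat.card C = q ^ 3 * (q + 1) ∧
    A ≤ Subgroup.center C ∧ Nat.card A = q ∧ (∀ x, x ∈ A ↔ x * x = 1) ∧
    (∃ g : C, ∀ c : C, ∃ i : ℕ, (g ^ i)⁻¹ * c ∈ P) ∧
    ∀ h : C, h ^ (q + 1) = 1 → h ≠ 1 → ∀ p ∈ P, h * p = p * h → p ∈ A

theorem IsCent.of_equiv {q : ℕ} {C D : Type*} [Group C] [Group D] (e : C ≃* D) (hC : IsCent q C) :
    IsCent q D := by
  obtain ⟨P, A, hP, hcP, hcC, hA, hcA, hsq, ⟨g, hg⟩, hf⟩ := hC
  refine ⟨P.map e.toMonoidHom, A.map e.toMonoidHom, hP.map _ e.surjective, ?_, ?_, ?_, ?_, ?_, ?_, ?_⟩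
  · rw [← hcP]; exact (Nat.card_congr (e.subgroupMap P).toEquiv).symm
  · rw [← hcC]; exact (Nat.card_congr e.toEquiv).symm
  · rintro _ ⟨a, ha, rfl⟩
    refine Subgroup.mem_center_iff.2 fun d => ?_
    obtain ⟨c, rfl⟩ := e.surjective d
    show e c * e a = e a * e c
    rw [← map_mul, ← map_mul, Subgroup.mem_center_iff.1 (hA ha) c]
  · rw [← hcA]; exact (Nat.card_congr (e.subgroupMap A).toEquiv).symm
  · intro d
    obtain ⟨c, rfl⟩ := e.surjective d
    rw [← map_mul, MulEquiv.map_eq_one_iff, ← hsq]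
    exact ⟨fun ⟨a, ha, h⟩ => e.injective h ▸ ha, fun h => ⟨c, h, rfl⟩⟩
  · refine ⟨e g, fun d => ?_⟩
    obtain ⟨c, rfl⟩ := e.surjective d
    obtain ⟨i, hi⟩ := hg c
    exact ⟨i, _, hi, by simp⟩
  · intro d hd hd1 p hp hdp
    obtain ⟨c, rfl⟩ := e.surjective d
    obtain ⟨p, hp', rfl⟩ := hp
    refine ⟨p, hf c ?_ (fun h => hd1 (by rw [h, map_one])) p hp' (e.injective ?_), rfl⟩
    · rwa [← map_pow, MulEquiv.map_eq_one_iff] at hd
    · rw [map_mul, map_mul]; exact hdp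

end Cfsg.Agent.Recog.PguThree
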