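import Cfsg.Agent.Lib.Recog.PguThree.Trans
import Cfsg.Agent.Lib.Recog.PguThree.CubeIso
import Cfsg.Agent.Lib.Grp.Basic

/-!
The rank-one set-up on the cosets of `M`; the subgroup generated by the involutions is `PSU₃(q)` and, with the
centraliser of `x`, gives everything.
-/

set_option autoImplicit false
set_option linter.unusedSectionVars false
set_option linter.style.haveILetI false

namespace Cfsg.Agent.Recog.PguThree

open MulAction
open Cfsg.Agent.Transfer.RankOne (Hyp invGen invGen_hyp invGen_simple mem_invGen q_le_invGen zGrp card_zGrp_eq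
  struct_all)

universe u

variable {G : Type u} [Group G]

local notation "C(" g ")" => Subgroup.centralizer ({g} : Set _)

variable {q : ℕ} {x : G} (B : Base G q x) [Finite G]
include B

/-- An element fixing every point is trivial. -/
theorem eq_one_of_fix_all {g : G} (h : ∀ c : G ⧸ mGrp x, g • c = c) : g = 1 := by
  obtain ⟨t, ht, ht2⟩ := exists_outside B
  have hb : t • basePt x ≠ basePt x := fun e => ht (fix_basePt.1 e)
  have hg : g ∈ mGrp x := fix_basePt.1 (h _)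
  have hg' : t * g * t ∈ mGrp x := (fix_point_iff B ht2).1 (h _)
  have hcomm : ∀ p ∈ pGrp q x, g * p = p * g := fun p hp => by
    have h1 : g * p * g⁻¹ * p⁻¹ ∈ pGrp q x := mul_mem (conj_pGrp_m B hg hp) (inv_mem hp)
    have h2 : t * (g * p * g⁻¹ * p⁻¹) * t ∈ mGrp x := by
      refine (fix_point_iff B ht2).1 ?_
      have h3 : g⁻¹ • (p⁻¹ • t • basePt x) = p⁻¹ • t • basePt x := by
        conv_lhs => rw [← h (p⁻¹ • t • basePt x), inv_smul_smul]
      rw [mul_smul, mul_smul, mul_smul, h3, smul_inv_smul, h]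
    exact mul_inv_eq_iff_eq_mul.1 (mul_inv_eq_one.1 (meet_p B ht ht2 h1 h2))
  have hgC : g ∈ C(x) := Subgroup.mem_centralizer_singleton_iff.2 (hcomm x (x_mem_pGrp B))
  by_contra hne
  have hle : Nat.card (pGrp q x) ≤ Nat.card (aGrp x) :=
    Nat.card_le_card_of_injective (fun p => (⟨p.1, fpf B hgC (meet_cent_pow B ht ht2 hgC hg') hne p.2
      (hcomm p p.2)⟩ : aGrp x)) fun p p' e => Subtype.ext (congrArg (fun w : aGrp x => (w : G)) e)
  rw [card_pGrp B, card_aGrp B] at hle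
  have h4 := (qFacts B).1
  have : q * (4 * 4) ≤ q ^ 3 := by
    rw [pow_succ', pow_two]; exact Nat.mul_le_mul_left q (Nat.mul_le_mul h4 h4)
  omega

theorem faithful : FaithfulSMul G (G ⧸ mGrp x) :=
  ⟨fun {g g'} h => inv_mul_eq_one.1 (eq_one_of_fix_all B fun c => by rw [mul_smul, ← h c, inv_smul_smul])⟩

theorem two_transitive : IsMultiplyPretransitive G (G ⧸ mGrp x) 2 := by
  rw [is_two_pretransitive_iff]
  intro b₁ b₂ c₁ c₂ hb hc
  obtain ⟨g, rfl⟩ := QuotientGroup.mk_surjective b₁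
  obtain ⟨k, rfl⟩ := QuotientGroup.mk_surjective c₁
  rw [← smul_basePt] at hb hc ⊢
  obtain ⟨m, hm, hm'⟩ := cent_trans B (b := g⁻¹ • b₂) (b' := k⁻¹ • c₂)
    (fun e => hb (by rw [← e, smul_inv_smul])) (fun e => hc (by rw [← e, smul_inv_smul]))
  refine ⟨k * m * g⁻¹, ?_, ?_⟩
  · rw [mul_smul, mul_smul, inv_smul_smul, fix_basePt.2 (cent_le_mGrp B hm), smul_basePt]
  · rw [mul_smul, mul_smul, hm', smul_inv_smul]

theorem exists_setup {t : G} (ht : t ∉ mGrp x) (ht2 : t * t = 1) : ∃ (k : ℕ) (Q : Subgroup G),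
    (mGrp x).index = 1 + q ^ 3 * k ∧ Nat.card Q = q ^ 3 * k ∧ k ∣ q + 1 ∧ aGrp x ≤ Q ∧ Q ≤ C(x) ∧
      Hyp G (G ⧸ mGrp x) (basePt x) t Q := by
  classical
  haveI := faithful B
  set b := t • basePt x with hbdef
  have hb : b ≠ basePt x := fun e => ht (fix_basePt.1 e)
  obtain ⟨k, hdk, hco, hidx⟩ := exists_param B hb
  haveI hn : ((pGrp q x).subgroupOf C(x)).Normal := ⟨fun p hp c => conj_pGrp B c.2 hp⟩
  let N := (pGrp q x).subgroupOf C(x)
  letI : CommGroup (C(x) ⧸ N) :=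
    { (inferInstance : Group (C(x) ⧸ N)) with
      mul_comm := fun u v => by
        obtain ⟨c, rfl⟩ := QuotientGroup.mk_surjective u
        obtain ⟨d, rfl⟩ := QuotientGroup.mk_surjective v
        rw [← QuotientGroup.mk_mul, ← QuotientGroup.mk_mul]
        refine (QuotientGroup.eq.2 (Subgroup.mem_subgroupOf.2 ?_)).symm
        have h1 := conj_pGrp B (inv_mem (mul_mem d.2 c.2)) (comm_mod_p B c.2 d.2)
        simp only [Subgroup.coe_mul, Subgroup.coe_inv]
        rwa [show ((d : G) * c)⁻¹ * ((c : G) * d * (c : G)⁻¹ * (d : G)⁻¹) * ((d : G) * c)⁻¹⁻¹ =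
          ((d : G) * c)⁻¹ * ((c : G) * d) by group] at h1 }
  let π : C(x) →* C(x) ⧸ N := QuotientGroup.mk' N
  let Qc : Subgroup C(x) := (powMonoidHom k : (C(x) ⧸ N) →* C(x) ⧸ N).ker.comap π
  have hQc : ∀ c : C(x), c ∈ Qc ↔ (c : G) ^ k ∈ pGrp q x := fun c => by
    show (π c) ^ k = 1 ↔ _
    rw [← map_pow, QuotientGroup.mk'_apply, QuotientGroup.eq_one_iff, Subgroup.mem_subgroupOf,
      SubgroupClass.coe_pow]
  let Q : Subgroup G := Qc.map C(x).subtype
  have hQ : ∀ g, g ∈ Q ↔ g ∈ C(x) ∧ g ^ k ∈ pGrp q x := fun g => by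
    constructor
    · rintro ⟨c, hc, rfl⟩; exact ⟨c.2, (hQc c).1 hc⟩
    · exact fun hg => ⟨⟨g, hg.1⟩, (hQc _).2 hg.2, rfl⟩
  have hPQ : pGrp q x ≤ Q := fun p hp => (hQ p).2 ⟨pGrp_le B hp, pow_mem hp k⟩
  have hQC : Q ≤ C(x) := fun g hg => ((hQ g).1 hg).1
  have hk0 : k ≠ 0 := fun e => by rw [e, mul_zero] at hdk; omega
  have hQcard : Nat.card Q = q ^ 3 * k := by
    obtain ⟨g0, hg0, hgen⟩ := exists_gen B
    haveI : IsCyclic (C(x) ⧸ N) := ⟨⟨π ⟨g0, hg0⟩, fun y => by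
      obtain ⟨⟨c, hc⟩, rfl⟩ := QuotientGroup.mk_surjective y
      obtain ⟨i, hi⟩ := hgen c hc
      refine ⟨(i : ℤ), ?_⟩
      show (π ⟨g0, hg0⟩) ^ (i : ℤ) = _
      rw [zpow_natCast, ← map_pow, QuotientGroup.mk'_apply, QuotientGroup.eq, Subgroup.mem_subgroupOf]
      exact hi⟩⟩
    have hq1 : Nat.card (C(x) ⧸ N) = q + 1 := by
      rw [← Subgroup.index_eq_card]
      have h1 := N.card_mul_index
      rw [Nat.card_congr (Subgroup.subgroupOfEquivOfLe (pGrp_le B)).toEquiv, card_pGrp B, card_cent B] at h1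
      exact Nat.eq_of_mul_eq_mul_left (pow_pos (by have := (qFacts B).1; omega) 3) h1
    have h1 := Subgroup.card_mul_index (Qc)
    have h2 : Qc.index = Nat.card (powMonoidHom k : (C(x) ⧸ N) →* C(x) ⧸ N).range := by
      rw [Subgroup.index_comap_of_surjective _ (QuotientGroup.mk'_surjective N), Subgroup.index_ker]
    have h3 := Subgroup.card_mul_index (powMonoidHom k : (C(x) ⧸ N) →* C(x) ⧸ N).ker
    rw [Subgroup.index_ker, IsCyclic.card_powMonoidHom_ker, hq1,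
      Nat.gcd_eq_right ⟨_, hdk.symm.trans (mul_comm _ _)⟩] at h3
    rw [h2, card_cent B, ← h3, ← mul_assoc] at h1
    rw [Subgroup.card_map_of_injective C(x).subtype_injective]
    exact Nat.eq_of_mul_eq_mul_right Nat.card_pos h1
  refine ⟨k, Q, hidx, hQcard, ⟨_, hdk.symm.trans (mul_comm _ _)⟩, (aGrp_le B).trans hPQ, hQC, ?_, ?_⟩
  swap
  · have h4 := (qFacts B).1
    obtain ⟨⟨a, ha⟩, hne⟩ : ∃ a : {a : G // a ∈ aGrp x ∧ a ≠ 1}, a.1 ≠ x := by
      by_contra hc
      push Not at hc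
      haveI : Subsingleton {a : G // a ∈ aGrp x ∧ a ≠ 1} :=
        ⟨fun a a' => Subtype.ext ((hc a).trans (hc a').symm)⟩
      have := card_aGrp_ne B
      have h1 : Nat.card {a : G // a ∈ aGrp x ∧ a ≠ 1} ≤ 1 := Finite.card_le_one_iff_subsingleton.2 inferInstance
      omega
    exact ⟨x, a, B.ne, ha.2, fun e => hne e.symm, B.sq, ((mem_aGrp B).1 ha.1).2,
      (aGrp_central B ha.1 (pGrp_le B (x_mem_pGrp B)))⟩
  refine ⟨two_transitive B, ht2, fun e => ht (e ▸ one_mem _), fun h => ht (fix_basePt.1 h),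
    fun g hg => fix_basePt.2 (cent_le_mGrp B (hQC hg)), fun h hh g hg => ?_, ?_, ?_, ?_, ?_⟩
  · have hhM := fix_basePt.1 (mem_stabilizer_iff.1 hh)
    obtain ⟨h1, h2⟩ := (hQ g).1 hg
    exact (hQ _).2 ⟨(conj_cent B hhM).2 h1, by rw [conj_pow]; exact conj_pGrp_m B hhM h2⟩
  · refine (Subgroup.eq_bot_iff_forall _).2 fun g hg => ?_
    obtain ⟨h1, h2⟩ := (hQ g).1 hg.1
    have hd : g ∈ d1Grp b := ⟨h1, hg.2⟩
    have h3 : (g ^ k) = 1 := by
      refine eq_one_of_pow_coprime (qFacts B).2.2.1 ((mem_pGrp B).1 h2).2 ?_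
      rw [← pow_mul, mul_comm, pow_mul, d1_pow B hb hd, one_pow]
    exact eq_one_of_pow_coprime hco (congrArg Subtype.val (pow_card_eq_one' (x := (⟨g, hd⟩ : d1Grp b)))) h3
  · refine le_antisymm (sup_le (fun g hg => fix_basePt.2 (cent_le_mGrp B (hQC hg))) inf_le_left) fun g hg => ?_
    obtain ⟨K, -, -, hKm, hKc⟩ := exists_kGrp B hb
    obtain ⟨j, hj, hjg⟩ := hKc g (fix_basePt.1 (mem_stabilizer_iff.1 hg))
    obtain ⟨hjM, hjb, -⟩ := (hKm j).1 hj
    have hC : C(x) ≤ Q ⊔ d1Grp b := by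
      have hnorm : d1Grp b ≤ Subgroup.normalizer (Q : Set G) := fun d hd => by
        refine Subgroup.mem_normalizer_iff.2 fun p => ?_
        show p ∈ Q ↔ d * p * d⁻¹ ∈ Q
        have hdM := cent_le_mGrp B hd.1
        rw [hQ, hQ, conj_cent B hdM, conj_pow]
        refine and_congr_right fun _ => ⟨conj_pGrp B hd.1, fun h => ?_⟩
        have h1 := conj_pGrp B (inv_mem hd.1) h
        rwa [show d⁻¹ * (d * p ^ k * d⁻¹) * d⁻¹⁻¹ = p ^ k by group] at h1
      refine le_of_eq (Subgroup.eq_of_le_of_card_ge (sup_le hQC (show d1Grp b ≤ C(x) from inf_le_left)) (le_of_eq ?_)).symm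
      rw [sup_comm, Grp.card_sup_coprime hnorm (by
        rw [hQcard]
        refine Nat.Coprime.mul_right ?_ hco
        exact (qFacts B).2.2.1.symm.coprime_dvd_left ⟨k, hdk.symm⟩), hQcard, card_cent B, ← hdk]
      ring
    rw [show g = j * (j⁻¹ * g) by group]
    refine mul_mem (Subgroup.mem_sup_right ⟨fix_basePt.2 hjM, hjb⟩) ?_
    exact SetLike.le_def.1 (sup_le_sup (le_refl Q)
      (show d1Grp b ≤ stabilizer G (basePt x) ⊓ stabilizer G b from
        fun d hd => ⟨fix_basePt.2 (cent_le_mGrp B hd.1), hd.2⟩)) (hC hjg)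
  · rw [hQcard]
    exact ((qFacts B).2.1.pow_of_ne_zero (three_ne_zero : (3 : ℕ) ≠ 0)).mul_right k
  · refine Nat.not_even_iff_odd.1 fun he => ?_
    haveI : Fact (Nat.Prime 2) := ⟨Nat.prime_two⟩
    obtain ⟨d, hd⟩ := exists_prime_orderOf_dvd_card'
      (G := ↥(stabilizer G (basePt x) ⊓ stabilizer G b)) 2 (even_iff_two_dvd.1 he)
    have h1 := meet_pow B ht ht2 (fix_basePt.1 d.2.1) ((fix_point_iff B ht2).1 d.2.2)
    have h2 : orderOf d ∣ (q - 1) * (q + 1) := orderOf_dvd_of_pow_eq_one (Subtype.ext h1)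
    rw [hd] at h2
    exact absurd (Nat.eq_one_of_dvd_coprimes
      (Nat.Coprime.mul_right (qFacts B).2.2.2.2.2.2 (qFacts B).2.2.2.2.2.1) dvd_rfl h2) (by norm_num)

/-- The order of the group, and the subgroup generated by the involutions. -/
theorem structure_main : Nat.card G = q ^ 3 * (q ^ 3 + 1) * (q ^ 2 - 1) ∧
    (∃ (K : Type) (_ : Field K) (_ : Fintype K), Fintype.card K = q ^ 2 ∧
      Nonempty (invGen G ≃* Cfsg.PSU 3 K q)) ∧
    (∀ g : G, ∃ l ∈ invGen G, l⁻¹ * g ∈ C(x)) ∧ pGrp q x ≤ invGen G := by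
  haveI := faithful B
  obtain ⟨t, ht, ht2⟩ := exists_outside B
  obtain ⟨k, Q, hidx, hQcard, hkq, hAQ, hQC, H⟩ := exists_setup B ht ht2
  haveI := invGen_simple H
  have HN := invGen_hyp H
  have hQL := q_le_invGen H
  have hQ2 : IsPGroup 2 Q := (struct_all HN).1.of_equiv (Subgroup.subgroupOfEquivOfLe hQL)
  obtain ⟨n, hn, hq⟩ := B.pow
  have hk1 : k = 1 := by
    haveI : Fact (Nat.Prime 2) := ⟨Nat.prime_two⟩
    obtain ⟨j, hj⟩ := IsPGroup.iff_card.1 hQ2
    have h1 : k ∣ 2 ^ j := ⟨q ^ 3, by rw [← hj, hQcard, mul_comm]⟩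
    exact Nat.eq_one_of_dvd_coprimes ((qFacts B).2.2.2.2.2.1.pow_left j) h1 hkq
  subst hk1
  rw [mul_one] at hQcard hidx
  have hPQ : Q = pGrp q x := by
    refine Subgroup.eq_of_le_of_card_ge ?_ (by rw [hQcard, card_pGrp B])
    exact le_pGrp B hQ2 (hAQ (x_mem_aGrp B))
  have hz : Nat.card (zGrp (invGen G) (basePt x)) = q := by
    refine (card_zGrp_eq HN).trans ?_
    refine Eq.trans (Nat.card_congr ?_) (card_aGrp B)
    exact
      { toFun := fun z => ⟨z.1.1.1, (mem_aGrp B).2 ⟨hQC z.1.2,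
          congrArg (fun w : Q.subgroupOf (invGen G) => ((w : invGen G) : G)) z.2⟩⟩
        invFun := fun a => ⟨⟨⟨a.1, hQL (hAQ a.2)⟩, hAQ a.2⟩, Subtype.ext (Subtype.ext ((mem_aGrp B).1 a.2).2)⟩
        left_inv := fun _ => rfl
        right_inv := fun _ => rfl }
  have h3 : Nat.card (Q.subgroupOf (invGen G)) = q ^ 3 := by
    rw [Nat.card_congr (Subgroup.subgroupOfEquivOfLe hQL).toEquiv, hQcard]
  obtain ⟨K, iK, iK', hK, he⟩ := psu_of_cube HN hz h3
  refine ⟨?_, ⟨K, iK, iK', hK, he⟩, fun g => ?_, hPQ ▸ hQL⟩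
  · rw [← (mGrp x).index_mul_card, hidx, card_mGrp B, card_cent B,
      show q ^ 2 - 1 = (q + 1) * (q - 1) by rw [← Nat.sq_sub_sq, one_pow]]
    ring
  · obtain ⟨s, hs, hsg⟩ : ∃ s ∈ invGen G, s⁻¹ * g ∈ mGrp x := by
      by_cases hg : g ∈ mGrp x
      · exact ⟨1, one_mem _, by rwa [inv_one, one_mul]⟩
      · obtain ⟨s, -, hs2, hsg⟩ := exists_swap B (b := g • basePt x) fun h => hg (fix_basePt.1 h)
        refine ⟨s, mem_invGen hs2, fix_basePt.1 ?_⟩
        rw [mul_smul, ← hsg, inv_smul_smul]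
    obtain ⟨j, hj, ej, hjg⟩ := exists_inverted B ht ht2 hsg
    have hjL : j ∈ invGen G := by
      rw [show j = t * (t * j) by rw [← mul_assoc, ht2, one_mul]]
      refine mul_mem (mem_invGen ht2) (mem_invGen ?_)
      rw [show t * j * (t * j) = t * j * t * j by group, ej, inv_mul_cancel]
    exact ⟨s * j, mul_mem hs hjL, by rwa [mul_inv_rev, mul_assoc]⟩

/-- An element commuting with all involutions is trivial. -/
theorem eq_one_of_comm {n : G} (h : ∀ s : G, s * s = 1 → n * s = s * n) : n = 1 := by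
  refine eq_one_of_fix_all B fun c => ?_
  obtain ⟨g, rfl⟩ := QuotientGroup.mk_surjective c
  rw [← smul_basePt, fix_smul_basePt]
  refine cent_le_mGrp B (Subgroup.mem_centralizer_singleton_iff.2 ?_)
  have h1 := h (g * x * g⁻¹) (by rw [conj_mul, B.sq, mul_one, mul_inv_cancel])
  calc g⁻¹ * n * g * x = g⁻¹ * (n * (g * x * g⁻¹)) * g := by group
    _ = x * (g⁻¹ * n * g) := by rw [h1]; group

end Cfsg.Agent.Recog.PguThree
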