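import Cfsg.Agent.Lib.Recog.PguThree.Count
import Cfsg.Agent.Lib.Grp.SchurZassenhaus
import Cfsg.Agent.Lib.Grp.Coprime

/-!
A non-trivial element of order dividing `q - 1` fixes at most two points, so the centraliser of `x` is transitive
off the base point; the order of a two-point stabiliser in it is a Hall divisor of `q + 1`.
-/

set_option autoImplicit false
set_option linter.unusedSectionVars false
set_option linter.style.haveILetI false

namespace Cfsg.Agent.Recog.PguThree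

open MulAction
open scoped Pointwise

universe u

variable {G : Type u} [Group G]

local notation "C(" g ")" => Subgroup.centralizer ({g} : Set _)

variable {q : ℕ} {x : G} (B : Base G q x) [Finite G]
include B

theorem fix_point_iff {t d : G} (ht2 : t * t = 1) : d • t • basePt x = t • basePt x ↔ t * d * t ∈ mGrp x := by
  rw [fix_smul_basePt, inv_of_sq ht2]

/-- Two points are swapped by an involution inverting the elements of order dividing `q - 1` fixing both. -/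
theorem swap_pair {p r : G ⧸ mGrp x} (hpr : p ≠ r) :
    ∃ s : G, s • p = r ∧ ∀ d : G, d • p = p → d • r = r → d ^ (q - 1) = 1 → s * d * s⁻¹ = d⁻¹ := by
  obtain ⟨g, rfl⟩ := QuotientGroup.mk_surjective p
  have hr : g⁻¹ • r ≠ basePt x := fun h => hpr (by
    rw [show r = g • g⁻¹ • r from (smul_inv_smul g r).symm, h, smul_basePt])
  obtain ⟨t, ht, ht2, htr⟩ := exists_swap B hr
  rw [← smul_basePt] at *
  refine ⟨g * t * g⁻¹, by rw [mul_smul, mul_smul, inv_smul_smul, htr, smul_inv_smul], fun d hd1 hd2 hd3 => ?_⟩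
  have h1 : g⁻¹ * d * g ∈ mGrp x := fix_smul_basePt.1 hd1
  have h2 : t * (g⁻¹ * d * g) * t ∈ mGrp x := by
    rw [← fix_point_iff B ht2, htr, mul_smul, mul_smul, smul_inv_smul, hd2]
  have h3 : (g⁻¹ * d * g) ^ (q - 1) = 1 := by
    have := conj_pow (i := q - 1) (a := g⁻¹) (b := d)
    rw [inv_inv] at this
    rw [this, hd3, mul_one, inv_mul_cancel]
  have h4 := (inverted_iff B ht ht2 h1 h2).2 h3
  rw [show g * t * g⁻¹ * d * (g * t * g⁻¹)⁻¹ = g * (t * (g⁻¹ * d * g) * t⁻¹) * g⁻¹ by group, inv_of_sq ht2, h4]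
  group

theorem two_fixed {b c : G ⧸ mGrp x} (hb : b ≠ basePt x) {k : G} (hka : k ∈ mGrp x) (hkb : k • b = b)
    (hk : k ^ (q - 1) = 1) (hk1 : k ≠ 1) (hkc : k • c = c) : c = basePt x ∨ c = b := by
  by_contra hcon
  push Not at hcon
  have hka' : k • basePt x = basePt x := fix_basePt.2 hka
  obtain ⟨s, hs, hs'⟩ := swap_pair B hb.symm
  obtain ⟨u, hu, hu'⟩ := swap_pair B hcon.2.symm
  obtain ⟨w, hw, hw'⟩ := swap_pair B hcon.1
  have i1 := hs' k hka' hkb hk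
  have i2 := hu' k hkb hkc hk
  have i3 := hw' k hkc hka' hk
  set e := w * u * s
  have he : e ∈ mGrp x := fix_basePt.1 (by rw [mul_smul, mul_smul, hs, hu, hw])
  have hek : e * k * e⁻¹ = k⁻¹ := by
    rw [show e * k * e⁻¹ = w * (u * (s * k * s⁻¹) * u⁻¹) * w⁻¹ by simp only [e]; group, i1,
      show u * k⁻¹ * u⁻¹ = (u * k * u⁻¹)⁻¹ by group, i2, inv_inv, i3]
  have h1 := comm_mod_c B he hka
  rw [hek, ← mul_inv_rev, inv_mem_iff, ← pow_two] at h1
  obtain ⟨-, -, -, hc1, hc2, -, h2⟩ := qFacts B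
  have h3 : (k ^ 2) ^ (q ^ 3 * (q + 1)) = 1 := by
    rw [← card_cent B]
    exact congrArg Subtype.val (pow_card_eq_one' (x := (⟨k ^ 2, h1⟩ : C(x))))
  rw [← pow_mul] at h3
  exact hk1 (eq_one_of_pow_coprime (Nat.Coprime.mul_left h2 (Nat.Coprime.mul_left hc1 hc2.symm)) h3 hk)

theorem exists_kGrp {b : G ⧸ mGrp x} (hb : b ≠ basePt x) : ∃ K : Subgroup G, Nat.card K = q - 1 ∧
    Group.IsSolvable K ∧ (∀ d, d ∈ K ↔ d ∈ mGrp x ∧ d • b = b ∧ d ^ (q - 1) = 1) ∧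
    ∀ g ∈ mGrp x, ∃ j ∈ K, j⁻¹ * g ∈ C(x) := by
  obtain ⟨t, ht, ht2, rfl⟩ := exists_swap B hb
  let K : Subgroup G :=
    { carrier := {d | d ∈ mGrp x ∧ t * d * t ∈ mGrp x ∧ d ^ (q - 1) = 1}
      one_mem' := ⟨one_mem _, by rw [mul_one, ht2]; exact one_mem _, one_pow _⟩
      mul_mem' := fun {u v} hu hv => ⟨mul_mem hu.1 hv.1, tconj_mul ht2 u v ▸ mul_mem hu.2.1 hv.2.1, by
        rw [(show Commute u v from meet_comm B ht ht2 hu.1 hu.2.1 hv.1 hv.2.1).mul_pow, hu.2.2, hv.2.2, one_mul]⟩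
      inv_mem' := fun {u} hu => ⟨inv_mem hu.1, tconj_inv ht2 u ▸ inv_mem hu.2.1, by
        rw [inv_pow, hu.2.2, inv_one]⟩ }
  have hsurj : ∀ g ∈ mGrp x, ∃ j ∈ K, j⁻¹ * g ∈ C(x) := fun g hg => by
    obtain ⟨j, hj, ej, hjg⟩ := exists_inverted B ht ht2 hg
    have hj' : t * j * t ∈ mGrp x := ej ▸ inv_mem hj
    exact ⟨j, ⟨hj, hj', (inverted_iff B ht ht2 hj hj').1 ej⟩, hjg⟩
  refine ⟨K, ?_, ?_, fun d => ?_, hsurj⟩
  · rw [← card_aGrp_ne B]
    refine Nat.card_congr (Equiv.ofBijective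
      (fun j => (⟨j.1 * x * j.1⁻¹, (mem_mGrp B).1 j.2.1, fun e => B.ne (conj_eq_one_iff.1 e)⟩ :
        {a : G // a ∈ aGrp x ∧ a ≠ 1})) ⟨fun j j' e => ?_, fun a => ?_⟩)
    · have e1 : j.1 * x * j.1⁻¹ = j'.1 * x * j'.1⁻¹ := congrArg Subtype.val e
      refine Subtype.ext (inverted_inj B ht ht2 j.2.1 j'.2.1 ((inverted_iff B ht ht2 j.2.1 j.2.2.1).2 j.2.2.2)
        ((inverted_iff B ht ht2 j'.2.1 j'.2.2.1).2 j'.2.2.2) ?_)
      rw [Subgroup.mem_centralizer_singleton_iff]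
      calc j.1⁻¹ * j'.1 * x = j.1⁻¹ * (j'.1 * x * j'.1⁻¹) * j'.1 := by group
        _ = x * (j.1⁻¹ * j'.1) := by rw [← e1]; group
    · obtain ⟨g, hg⟩ := isConj_iff.1 (B.conj x a.1 B.ne B.sq a.2.2 ((mem_aGrp B).1 a.2.1).2)
      obtain ⟨j, hj, hjg⟩ := hsurj g ((mem_mGrp B).2 (hg ▸ a.2.1))
      refine ⟨⟨j, hj⟩, Subtype.ext (Eq.trans ?_ hg)⟩
      rw [Subgroup.mem_centralizer_singleton_iff] at hjg
      show j * x * j⁻¹ = g * x * g⁻¹
      calc j * x * j⁻¹ = j * (x * (j⁻¹ * g)) * g⁻¹ := by group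
        _ = g * x * g⁻¹ := by rw [← hjg]; group
  · exact Group.isSolvable_of_comm fun u v => Subtype.ext (meet_comm B ht ht2 u.2.1 u.2.2.1 v.2.1 v.2.2.1)
  · exact and_congr_right fun _ => and_congr_left fun _ => (fix_point_iff B ht2).symm

theorem exists_k_ne {K : Subgroup G} (hK : Nat.card K = q - 1) : ∃ k ∈ K, k ≠ 1 := by
  by_contra hc
  push Not at hc
  rw [show K = ⊥ from (Subgroup.eq_bot_iff_forall K).2 hc, Subgroup.card_bot] at hK
  have := (qFacts B).1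
  omega

/-- The centraliser of `x` is transitive off the base point. -/
theorem cent_trans {b b' : G ⧸ mGrp x} (hb : b ≠ basePt x) (hb' : b' ≠ basePt x) : ∃ c ∈ C(x), c • b = b' := by
  obtain ⟨K, hK, hKs, hKm, hKc⟩ := exists_kGrp B hb
  obtain ⟨K', hK', -, hKm', -⟩ := exists_kGrp B hb'
  obtain ⟨-, -, -, hco, hco2, -, -⟩ := qFacts B
  obtain ⟨n, hn, hn'⟩ := Grp.exists_conj_of_le_sup (N := C(x)) (H := K) (K := K')
    (fun k hk => Subgroup.mem_normalizer_iff.2 fun c => (conj_cent B ((hKm k).1 hk).1).symm)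
    (fun g hg => by
      obtain ⟨j, hj, hjg⟩ := hKc g ((hKm' g).1 hg).1
      rw [show g = j * (j⁻¹ * g) by group]
      exact mul_mem (Subgroup.mem_sup_right hj) (Subgroup.mem_sup_left hjg))
    (hK'.trans hK.symm) (by rw [card_cent B, hK]; exact Nat.Coprime.mul_left hco hco2.symm) (Or.inr hKs)
  obtain ⟨k, hk, hk1⟩ := exists_k_ne B hK
  have hk' : n * k * n⁻¹ ∈ K' := by
    rw [← hn']; exact Subgroup.smul_mem_pointwise_smul k (MulAut.conj n) K hk
  obtain ⟨h1, h2, h3⟩ := (hKm' _).1 hk'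
  have hnM := cent_le_mGrp B hn
  have hne : n • b ≠ basePt x := fun h => hb (smul_left_cancel n (h.trans (fix_basePt.2 hnM).symm))
  refine ⟨n, hn, ((two_fixed B hb' h1 h2 h3 (fun e => hk1 (conj_eq_one_iff.1 e)) ?_).resolve_left hne)⟩
  rw [mul_smul, mul_smul, inv_smul_smul, ((hKm k).1 hk).2.1]

/-- The two-point stabiliser in the centraliser of `x`. -/
def d1Grp (b : G ⧸ mGrp x) : Subgroup G := C(x) ⊓ stabilizer G b

omit B in
theorem mem_d1Grp {b : G ⧸ mGrp x} {d : G} : d ∈ d1Grp b ↔ d ∈ C(x) ∧ d • b = b := Iff.rfl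

theorem d1_pow {b : G ⧸ mGrp x} (hb : b ≠ basePt x) {d : G} (hd : d ∈ d1Grp b) : d ^ (q + 1) = 1 := by
  obtain ⟨t, ht, ht2, rfl⟩ := exists_swap B hb
  exact meet_cent_pow B ht ht2 hd.1 ((fix_point_iff B ht2).1 hd.2)

theorem card_d1_dvd {b : G ⧸ mGrp x} (hb : b ≠ basePt x) : Nat.card (d1Grp b) ∣ q + 1 := by
  have h1 : Nat.card (d1Grp b) ∣ q ^ 3 * (q + 1) :=
    card_cent B ▸ Subgroup.card_dvd_of_le (inf_le_left : d1Grp b ≤ C(x))
  refine Nat.Coprime.dvd_of_dvd_mul_left ?_ h1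
  obtain ⟨n, -, hn⟩ := B.pow
  rw [hn, ← pow_mul]
  refine Nat.Coprime.pow_right _ (Nat.coprime_two_right.2 (Nat.not_even_iff_odd.1 fun he => ?_))
  haveI : Fact (Nat.Prime 2) := ⟨Nat.prime_two⟩
  obtain ⟨d, hd⟩ := exists_prime_orderOf_dvd_card' (G := d1Grp b) 2 (even_iff_two_dvd.1 he)
  have h2 : orderOf d ∣ q + 1 := orderOf_dvd_of_pow_eq_one (Subtype.ext (d1_pow B hb d.2))
  rw [hd] at h2
  exact absurd (Nat.eq_one_of_dvd_coprimes (qFacts B).2.2.2.2.2.1 dvd_rfl h2) (by norm_num)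

/-- The parameters of the two-point stabiliser. -/
theorem exists_param {b : G ⧸ mGrp x} (hb : b ≠ basePt x) : ∃ k : ℕ,
    Nat.card (d1Grp b) * k = q + 1 ∧ Nat.Coprime (Nat.card (d1Grp b)) k ∧ (mGrp x).index = 1 + q ^ 3 * k := by
  classical
  haveI := Fintype.ofFinite (G ⧸ mGrp x)
  set d := Nat.card (d1Grp b) with hd
  obtain ⟨k, hk⟩ := card_d1_dvd B hb
  refine ⟨k, hk.symm, ?_, ?_⟩
  swap
  · have h1 := card_eq_of_fibres ((d1Grp b).subgroupOf C(x)) (α := {c : G ⧸ mGrp x // c ≠ basePt x})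
      (fun g => ⟨g.1 • b, fun h => hb (smul_left_cancel g.1 (h.trans (fix_basePt.2 (cent_le_mGrp B g.2)).symm))⟩)
      (fun c => (cent_trans B hb c.2).elim fun g hg => ⟨⟨g, hg.1⟩, Subtype.ext hg.2⟩)
      (fun g g' => by
        rw [Subgroup.mem_subgroupOf, Subgroup.coe_mul, Subgroup.coe_inv, mem_d1Grp, Subtype.mk.injEq]
        exact ⟨fun e => ⟨mul_mem (inv_mem g.2) g'.2, by rw [mul_smul, ← e, inv_smul_smul]⟩,
          fun e => by rw [← inv_smul_eq_iff.1 ((mul_smul _ _ _).symm.trans e.2)]⟩)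
    have hle : d1Grp b ≤ C(x) := inf_le_left
    rw [card_cent B, Nat.card_congr (Subgroup.subgroupOfEquivOfLe hle).toEquiv, ← hd,
      hk, ← hd, show q ^ 3 * (d * k) = q ^ 3 * k * d by ring] at h1
    have h2 := (Nat.eq_of_mul_eq_mul_right (Nat.card_pos (α := d1Grp b)) h1).symm
    rw [Nat.card_eq_fintype_card, Fintype.card_subtype_compl, Fintype.card_subtype_eq,
      ← Nat.card_eq_fintype_card, ← Subgroup.index_eq_card] at h2
    have h3 : 0 < (mGrp x).index := Nat.pos_of_ne_zero Subgroup.index_ne_zero_of_finite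
    omega
  refine Nat.coprime_of_dvd' fun r hr hrd hrk => ?_
  exfalso
  obtain ⟨K, hK, hKs, hKm, -⟩ := exists_kGrp B hb
  obtain ⟨t, ht, ht2, htb⟩ := exists_swap B hb
  haveI hn : ((pGrp q x).subgroupOf C(x)).Normal := ⟨fun p hp c => conj_pGrp B c.2 hp⟩
  let N := (pGrp q x).subgroupOf C(x)
  obtain ⟨g0, hg0, hgen⟩ := exists_gen B
  set z : C(x) ⧸ N := QuotientGroup.mk ⟨g0, hg0⟩ with hz
  have hz' : ∀ y : C(x) ⧸ N, y ∈ Subgroup.zpowers z := fun y => by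
    obtain ⟨⟨c, hc⟩, rfl⟩ := QuotientGroup.mk_surjective y
    obtain ⟨i, hi⟩ := hgen c hc
    refine ⟨(i : ℤ), ?_⟩
    show z ^ (i : ℤ) = _
    rw [zpow_natCast, hz, ← QuotientGroup.mk_pow, QuotientGroup.eq, Subgroup.mem_subgroupOf]
    exact hi
  haveI : IsCyclic (C(x) ⧸ N) := ⟨⟨z, hz'⟩⟩
  haveI := Fintype.ofFinite (C(x) ⧸ N)
  have hord : orderOf z = q + 1 := by
    rw [orderOf_eq_card_of_forall_mem_zpowers hz', ← Subgroup.index_eq_card]
    have h1 := N.card_mul_index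
    rw [Nat.card_congr (Subgroup.subgroupOfEquivOfLe (pGrp_le B)).toEquiv, card_pGrp B, card_cent B] at h1
    exact Nat.eq_of_mul_eq_mul_left (pow_pos (by have := (qFacts B).1; omega) 3) h1
  haveI := Fintype.ofFinite (d1Grp b)
  -- the `d`-torsion of the quotient is fixed by `K`
  have hfixed : ∀ y : C(x) ⧸ N, y ^ d = 1 → ∃ e : C(x), (e : G) ∈ d1Grp b ∧ QuotientGroup.mk e = y := by
    intro y hy
    let f : d1Grp b →* C(x) ⧸ N := (QuotientGroup.mk' N).comp (Subgroup.inclusion inf_le_left)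
    have hinj : Function.Injective f := (injective_iff_map_eq_one f).2 fun e he => Subtype.ext (by
      have h1 := (QuotientGroup.eq_one_iff _).1 he
      exact eq_one_of_pow_coprime (qFacts B).2.2.1 ((mem_pGrp B).1 h1).2 (d1_pow B hb e.2))
    have himg : (Finset.univ.image f) = Finset.univ.filter fun w : C(x) ⧸ N => w ^ d = 1 := by
      refine Finset.eq_of_subset_of_card_le (fun w hw => ?_) ?_
      · obtain ⟨e, -, rfl⟩ := Finset.mem_image.1 hw
        exact Finset.mem_filter.2 ⟨Finset.mem_univ _, by rw [← map_pow, hd, pow_card_eq_one', map_one]⟩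
      · rw [Finset.card_image_of_injective _ hinj, Finset.card_univ, ← Nat.card_eq_fintype_card, ← hd]
        exact IsCyclic.card_pow_eq_one_le (Nat.card_pos)
    have hy' : y ∈ Finset.univ.image f := himg ▸ Finset.mem_filter.2 ⟨Finset.mem_univ _, hy⟩
    obtain ⟨e, -, he⟩ := Finset.mem_image.1 hy'
    exact ⟨Subgroup.inclusion inf_le_left e, e.2, he⟩
  obtain ⟨k', rfl⟩ := hrk
  set c : C(x) := ⟨g0, hg0⟩ ^ k' with hc
  have hcd : ¬ (QuotientGroup.mk c : C(x) ⧸ N) ^ d = 1 := fun h => by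
    rw [hc, QuotientGroup.mk_pow, ← hz, ← pow_mul] at h
    have h1 := Nat.le_of_dvd (Nat.mul_pos (Nat.pos_of_ne_zero fun e => by
      rw [e, mul_zero, mul_zero] at hk; omega) (Nat.card_pos (α := d1Grp b))) (hord ▸ orderOf_dvd_of_pow_eq_one h)
    rw [hk, ← hd] at h1
    have h2 : 2 * (k' * d) ≤ d * (r * k') := by
      calc 2 * (k' * d) ≤ r * (k' * d) := Nat.mul_le_mul_right _ hr.two_le
        _ = d * (r * k') := by ring
    have h3 : 0 < k' * d := Nat.mul_pos (Nat.pos_of_ne_zero fun e => by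
      rw [e, mul_zero, mul_zero] at hk; omega) Nat.card_pos
    omega
  have hcr : ((QuotientGroup.mk c : C(x) ⧸ N) ^ r) ^ d = 1 := by
    rw [hc, QuotientGroup.mk_pow, ← hz, ← pow_mul, ← pow_mul, ← orderOf_dvd_iff_pow_eq_one, hord, hk]
    exact ⟨1, by ring⟩
  refine hcd ?_
  have hKC : ∀ κ ∈ K, κ * (c : G) * κ⁻¹ * (c : G)⁻¹ ∈ pGrp q x := by
    intro κ hκ
    obtain ⟨hκM, hκb, hκq⟩ := (hKm κ).1 hκ
    let φ₀ : C(x) →* C(x) := MonoidHom.codRestrict ((MulAut.conj κ).toMonoidHom.comp C(x).subtype) _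
      fun u => (conj_cent B hκM).2 u.2
    let φ : C(x) ⧸ N →* C(x) ⧸ N := QuotientGroup.map N N φ₀ fun u hu => conj_pGrp_m B hκM hu
    have hfix : ∀ y : C(x) ⧸ N, y ^ d = 1 → φ y = y := fun y hy => by
      obtain ⟨e, he, rfl⟩ := hfixed y hy
      show QuotientGroup.mk (φ₀ e) = _
      refine congrArg QuotientGroup.mk (Subtype.ext ?_)
      show κ * (e : G) * κ⁻¹ = e
      rw [mem_d1Grp, ← htb, fix_point_iff B ht2] at he
      rw [← htb, fix_point_iff B ht2] at hκb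
      rw [meet_comm B ht ht2 hκM hκb (cent_le_mGrp B he.1) he.2, mul_inv_cancel_right]
    set y : C(x) ⧸ N := QuotientGroup.mk c
    set δ := φ y * y⁻¹ with hδ
    letI : CommGroup (C(x) ⧸ N) := IsCyclic.commGroup
    have hδr : δ ^ r = 1 := by
      rw [hδ, mul_pow, ← map_pow, hfix _ hcr, inv_pow, mul_inv_cancel]
    have hδd : δ ^ d = 1 := orderOf_dvd_iff_pow_eq_one.1 ((orderOf_dvd_of_pow_eq_one hδr).trans hrd)
    have hit : ∀ m : ℕ, (QuotientGroup.mk (⟨κ ^ m * (c : G) * (κ ^ m)⁻¹,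
        (conj_cent B (pow_mem hκM m)).2 c.2⟩ : C(x)) : C(x) ⧸ N) = δ ^ m * y := by
      intro m
      induction m with
      | zero =>
        refine Eq.trans ?_ (show y = δ ^ 0 * y by rw [pow_zero, one_mul])
        exact congrArg QuotientGroup.mk (Subtype.ext (by simp))
      | succ m ih =>
        have h1 := congrArg φ ih
        rw [map_mul, map_pow, hfix δ hδd, show φ y = δ * y by rw [hδ, inv_mul_cancel_right], ← mul_assoc,
          ← pow_succ] at h1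
        refine Eq.trans ?_ h1
        refine congrArg QuotientGroup.mk (Subtype.ext ?_)
        show κ ^ (m + 1) * (c : G) * (κ ^ (m + 1))⁻¹ = κ * (κ ^ m * (c : G) * (κ ^ m)⁻¹) * κ⁻¹
        rw [pow_succ']; group
    have h1 := hit (q - 1)
    have hδq : δ ^ (q - 1) = 1 := by
      refine mul_eq_right.1 (Eq.trans h1.symm ?_)
      exact congrArg QuotientGroup.mk (Subtype.ext (by simp [hκq]))
    have hδ1 : δ = 1 := eq_one_of_pow_coprime (qFacts B).2.2.2.2.1 hδq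
      (orderOf_dvd_iff_pow_eq_one.1 ((orderOf_dvd_of_pow_eq_one hδd).trans ⟨r * k', hk⟩))
    rw [hδ, mul_inv_eq_one] at hδ1
    have h2 : (φ₀ c)⁻¹ * c ∈ N := QuotientGroup.eq.1 hδ1
    have h3 := conj_pGrp B ((conj_cent B hκM).2 c.2) (inv_mem (Subgroup.mem_subgroupOf.1 h2))
    rw [Subgroup.coe_mul, Subgroup.coe_inv, show ((φ₀ c : C(x)) : G) = κ * (c : G) * κ⁻¹ from rfl] at h3
    exact (show κ * (c : G) * κ⁻¹ * ((κ * (c : G) * κ⁻¹)⁻¹ * (c : G))⁻¹ * (κ * (c : G) * κ⁻¹)⁻¹ =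
      κ * (c : G) * κ⁻¹ * (c : G)⁻¹ by group) ▸ h3
  obtain ⟨e, ⟨heC, heK⟩, hce⟩ := Grp.exists_fixed_rep K C(x) (pGrp q x)
    (fun κ hκ => Subgroup.mem_normalizer_iff.2 fun u => (conj_cent B ((hKm κ).1 hκ).1).symm)
    (disjoint_iff.1 (Subgroup.disjoint_def.2 fun hκ hκC => by
      obtain ⟨-, -, hκq⟩ := (hKm _).1 hκ
      refine eq_one_of_pow_coprime (Nat.Coprime.mul_left (qFacts B).2.2.2.1 (qFacts B).2.2.2.2.1.symm) ?_ hκq
      rw [← card_cent B]
      exact congrArg Subtype.val (pow_card_eq_one' (x := (⟨_, hκC⟩ : C(x))))))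
    (by rw [hK, card_pGrp B]; exact (qFacts B).2.2.2.1.symm) (Or.inl hKs) (pGrp_le B)
    (fun u hu => Subgroup.mem_normalizer_iff.2 fun p => ⟨conj_pGrp B hu, fun hp => by
      have h1 := conj_pGrp B (inv_mem hu) hp
      rwa [show u⁻¹ * (u * p * u⁻¹) * u⁻¹⁻¹ = p by group] at h1⟩)
    (fun κ hκ => Subgroup.mem_normalizer_iff.2 fun p => ⟨conj_pGrp_m B ((hKm κ).1 hκ).1, fun hp => by
      have h1 := conj_pGrp_m B (inv_mem ((hKm κ).1 hκ).1) hp
      rwa [show κ⁻¹ * (κ * p * κ⁻¹) * κ⁻¹⁻¹ = p by group] at h1⟩)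
    c.2 hKC
  obtain ⟨κ, hκ, hκ1⟩ := exists_k_ne B hK
  obtain ⟨hκM, hκb, hκq⟩ := (hKm κ).1 hκ
  have heb : e ∈ d1Grp b := ⟨heC, (two_fixed B hb hκM hκb hκq hκ1 (by
    rw [← mul_smul, Subgroup.mem_centralizer_iff.1 heK κ hκ, mul_smul, hκb])).resolve_left
      fun h => hb (smul_left_cancel e (h.trans (fix_basePt.2 (cent_le_mGrp B heC)).symm))⟩
  have hed : (⟨e, heC⟩ : C(x)) ^ d = 1 := by
    refine Subtype.ext ?_
    rw [hd]
    show e ^ Nat.card (d1Grp b) = 1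
    exact congrArg Subtype.val (pow_card_eq_one' (x := (⟨e, heb⟩ : d1Grp b)))
  rw [show (QuotientGroup.mk c : C(x) ⧸ N) = QuotientGroup.mk ⟨e, heC⟩ from
    QuotientGroup.eq.2 (Subgroup.mem_subgroupOf.2 hce), ← QuotientGroup.mk_pow, hed, QuotientGroup.mk_one]

end Cfsg.Agent.Recog.PguThree
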